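import Cfsg.Agent.H191.KB.Crit

/-!
# S4791 + S4927: the quotient by the hull is cyclic, abstract part (helper914)

`exists_gen_hull` : `Φ : Γ → Aut(S)` surjective, `σ : Γ → C` with `C` cyclic, the elements of `ker σ` act on a Sylow
`p`-subgroup of `S` as elements of `S`. Then `A / hull` is cyclic for every `A` with normal subgroup `T ≃ S`.
-/

set_option autoImplicit false
set_option linter.unusedSectionVars false

open Cfsg Subgroup Cfsg.Agent.H508.KB Cfsg.Agent.H191.KB.Crit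

namespace Cfsg.Agent.H914.XR

universe u

variable {p : ℕ} [Fact p.Prime] {A : Type u} [Group A] [Finite A] (T : Subgroup A) [T.Normal] {S : Type u} [Group S]
  [Finite S] (e : S ≃* T)

/-- elements which act on a Sylow `p`-subgroup as an element of `S` -/
theorem mem_hull_of (P : Sylow p S) {a : A} {s : S}
    (hs : ∀ x ∈ (P : Subgroup S), toAut T e a x = s * x * s⁻¹) : a ∈ hull p T := by
  have hsur : Function.Surjective (e.toMonoidHom : S →* T) := e.surjective
  have h1 : (e s : A)⁻¹ * a ∈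
      centralizer (((P.mapSurjective hsur : Subgroup T).map T.subtype : Subgroup A) : Set A) := by
    rw [mem_centralizer_iff]
    rintro _ ⟨_, ⟨x, hx, rfl⟩, rfl⟩
    have h2 := (toAut_eq_iff T e _ _ _).1 (hs x hx)
    rw [map_mul, map_mul, map_inv] at h2
    change _ = (e s : A) * e x * (e s : A)⁻¹ at h2
    change (e x : A) * ((e s : A)⁻¹ * a) = (e s : A)⁻¹ * a * (e x : A)
    rw [mul_inv_eq_iff_eq_mul] at h2
    rw [mul_assoc, h2]
    group
  have h3 : a = (e s : A) * ((e s : A)⁻¹ * a) := by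
    rw [mul_inv_cancel_left]
  rw [h3]
  exact mul_mem (le_hull T p (e s).2) (centralizer_le_hull T _ h1)

include e in
/-- **`A / hull` is cyclic** -/
theorem exists_gen_hull {Γ C : Type*} [Group Γ] [Group C] [IsCyclic C] (Φ : Γ →* MulAut S)
    (hΦ : Function.Surjective Φ) (σ : Γ →* C) (P : Sylow p S)
    (h : ∀ g, σ g = 1 → ∃ s : S, ∀ x ∈ (P : Subgroup S), Φ g x = s * x * s⁻¹) :
    ∃ a : A, ∀ b : A, ∃ k : ℤ, a ^ k * b ∈ hull p T := by
  let H : Subgroup Γ := (toAut T e).range.comap Φ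
  have hcyc : IsCyclic (H.map σ) := inferInstance
  obtain ⟨⟨c, g₀, hg₀, rfl⟩, hc⟩ := hcyc.exists_generator
  obtain ⟨a₀, ha₀⟩ := hg₀
  refine ⟨a₀, fun b => ?_⟩
  obtain ⟨g, hg⟩ := hΦ (toAut T e b)
  have hgH : g ∈ H := ⟨b, hg.symm⟩
  obtain ⟨k, hk⟩ := hc ⟨σ g, g, hgH, rfl⟩
  have hk' : (σ g₀) ^ k = σ g := congrArg Subtype.val hk
  refine ⟨-k, ?_⟩
  have h1 : σ (g₀ ^ (-k) * g) = 1 := by
    rw [map_mul, map_zpow, ← hk', zpow_neg, inv_mul_cancel]
  obtain ⟨s, hs⟩ := h _ h1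
  refine mem_hull_of T e P (s := s) fun x hx => ?_
  rw [← hs x hx, map_mul, map_mul, map_zpow, map_zpow, ha₀, hg]

end Cfsg.Agent.H914.XR
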