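import Cfsg.Agent.H989.OutOrth.Basic
import Cfsg.Agent.H324.AP.MinS
import Cfsg.Agent.H914.XR.HullA

/-!
# S4791 + S4927: the similitudes lie in the hull, linear primes (helper914)

`T` a Sylow `p`-subgroup of `E Q`, `V = C_V(T) ⊥ (A + B)` with `T`-invariant totally singular `A`, `B` (`LinFr`), `Q` takes
values of every square class on `C_V(T)`.

* `exists_sim` : a similitude which commutes with `T`, with the multiplier of a similitude which normalises `T`;
* `act_of_sim` : every similitude acts on the image of `T` in `P Q` as an element of `P Q`.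
-/

set_option autoImplicit false
set_option linter.unusedSectionVars false

namespace Cfsg.Agent.H914.XR

open QuadraticMap Cfsg.Agent.LieClassical.OrthCore Cfsg.Agent.LieClassical.OrthTrans
  Cfsg.Agent.LieClassical.OrthSimple Cfsg.Agent.ClassicalGeometry.OrthSemi
  Cfsg.Agent.ClassicalGeometry.OrthSemiCount Cfsg.Agent.ClassicalGeometry.OrthAut1
  Cfsg.Agent.H989.OutOrth.Basic Cfsg.Agent.H324.AP

variable {F V : Type*} [Field F] [AddCommGroup V] [Module F V] {Q : QuadraticForm F V}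

theorem splF (hQ : Nondeg Q) : SplF (RingHom.id F) (fun u v => polar Q u v) (O Q) where
  add_left u v w := polar_add_left Q u v w
  add_right u v w := polar_add_right Q u v w
  smul_left a u v := polar_smul_left Q a u v
  smul_right a u v := polar_smul_right Q a u v
  refl u v h := by
    rw [polar_comm]
    exact h
  nd u h := hQ u h
  pres g hg u v := polar_map hg u v
  split := by
    intro g hg g' U W hUW ho hgU h1 h2 v
    obtain ⟨u, hu, w, hw, rfl⟩ := Submodule.mem_sup.1 (show v ∈ U ⊔ W by rw [hUW]; trivial)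
    rw [map_add, h1 u hu, h2 w hw, Q_add, Q_add, hg u]
    congr 1
    rw [show polar Q (g u) w = 0 from ho _ (hgU u hu) w hw, show polar Q u w = 0 from ho u hu w hw]

/-- `V = C_V(P) ⊥ (A + B)` with invariant totally singular `A`, `B` -/
structure LinFr (Q : QuadraticForm F V) (P : Subgroup (V ≃ₗ[F] V)) (A B : Submodule F V) : Prop where
  invA : Inv P A
  invB : Inv P B
  QA : ∀ a ∈ A, Q a = 0
  QB : ∀ b ∈ B, Q b = 0
  oA : ∀ v ∈ fixP P, ∀ a ∈ A, polar Q v a = 0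
  oB : ∀ v ∈ fixP P, ∀ b ∈ B, polar Q v b = 0
  inf : A ⊓ B = ⊥
  c : IsCompl (fixP P) (A ⊔ B)

section sim

variable {P : Subgroup (V ≃ₗ[F] V)} {A B : Submodule F V}

theorem LinFr.dec (h : LinFr Q P A B) (v : V) : ∃ x ∈ fixP P, ∃ a ∈ A, ∃ b ∈ B, v = x + a + b := by
  obtain ⟨x, hx, w, hw, rfl⟩ := Submodule.mem_sup.1 (show v ∈ fixP P ⊔ (A ⊔ B) by rw [h.c.sup_eq_top]; trivial)
  obtain ⟨a, ha, b, hb, rfl⟩ := Submodule.mem_sup.1 hw
  exact ⟨x, hx, a, ha, b, hb, (add_assoc _ _ _).symm⟩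

theorem LinFr.uniq (h : LinFr Q P A B) {x a b : V} (hx : x ∈ fixP P) (ha : a ∈ A) (hb : b ∈ B) (e : x + a + b = 0) :
    x = 0 ∧ a = 0 ∧ b = 0 := by
  have h1 : x ∈ fixP P ⊓ (A ⊔ B) := by
    refine ⟨hx, ?_⟩
    have h2 : x = -(a + b) := by
      rw [add_assoc] at e
      exact eq_neg_of_add_eq_zero_left e
    rw [h2]
    exact Submodule.neg_mem _ (Submodule.add_mem_sup ha hb)
  rw [h.c.inf_eq_bot] at h1
  have hx0 : x = 0 := h1
  rw [hx0, zero_add] at e
  have h2 : a ∈ A ⊓ B := by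
    refine ⟨ha, ?_⟩
    rw [eq_neg_of_add_eq_zero_left e]
    exact B.neg_mem hb
  rw [h.inf] at h2
  have ha0 : a = 0 := h2
  rw [ha0, zero_add] at e
  exact ⟨hx0, ha0, e⟩

theorem LinFr.complA (h : LinFr Q P A B) : IsCompl A (B ⊔ fixP P) := by
  refine ⟨?_, ?_⟩
  · rw [disjoint_iff, eq_bot_iff]
    rintro a ⟨ha, hw⟩
    obtain ⟨b, hb, x, hx, e⟩ := Submodule.mem_sup.1 hw
    have h1 := h.uniq (x := -x) (a := a) (b := -b) ((fixP P).neg_mem hx) ha (B.neg_mem hb) (by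
      rw [← e]; abel)
    exact h1.2.1
  · rw [codisjoint_iff, eq_top_iff, sup_comm B, ← sup_assoc, sup_comm A, sup_assoc, h.c.sup_eq_top]

theorem LinFr.complB (h : LinFr Q P A B) : IsCompl B (A ⊔ fixP P) := by
  refine ⟨?_, ?_⟩
  · rw [disjoint_iff, eq_bot_iff]
    rintro b ⟨hb, hw⟩
    obtain ⟨a, ha, x, hx, e⟩ := Submodule.mem_sup.1 hw
    have h1 := h.uniq (x := -x) (a := -a) (b := b) ((fixP P).neg_mem hx) (A.neg_mem ha) hb (by
      rw [← e]; abel)
    exact h1.2.2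
  · rw [codisjoint_iff, eq_top_iff, sup_comm A, ← sup_assoc, sup_comm B, sup_assoc, sup_comm B, h.c.sup_eq_top]

theorem LinFr.Q_eq (h : LinFr Q P A B) {x a b : V} (hx : x ∈ fixP P) (ha : a ∈ A) (hb : b ∈ B) :
    Q (x + a + b) = Q x + polar Q a b := by
  rw [Q_add, Q_add, h.QA a ha, h.QB b hb, h.oA x hx a ha, polar_add_left, h.oB x hx b hb]
  ring

/-- a similitude which commutes with `P` -/
theorem LinFr.exists_sim [FiniteDimensional F V] (h : LinFr Q P A B) {c : F} (hc : c ≠ 0) (L : V ≃ₗ[F] V)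
    (hL : ∀ v, Q (L v) = c * Q v) (hL0 : ∀ v ∈ fixP P, L v ∈ fixP P) :
    ∃ z : V ≃ₗ[F] V, (∀ v, Q (z v) = c * Q v) ∧ ∀ g ∈ P, ∀ v, z (g v) = g (z v) := by
  let z₀ : Module.End F V := (L : V →ₗ[F] V) ∘ₗ (fixP P).projection (A ⊔ B) h.c +
    (c • A.projection (B ⊔ fixP P) h.complA + B.projection (A ⊔ fixP P) h.complB)
  have hz₀ : ∀ x ∈ fixP P, ∀ a ∈ A, ∀ b ∈ B, z₀ (x + a + b) = L x + c • a + b := by
    intro x hx a ha b hb
    have e1 : (fixP P).projection (A ⊔ B) h.c (x + a + b) = x := by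
      rw [map_add, map_add, Submodule.projection_apply_of_mem_left h.c hx,
        (Submodule.projection_apply_eq_zero_iff h.c).2 (Submodule.mem_sup_left ha),
        (Submodule.projection_apply_eq_zero_iff h.c).2 (Submodule.mem_sup_right hb), add_zero, add_zero]
    have e2 : A.projection (B ⊔ fixP P) h.complA (x + a + b) = a := by
      rw [map_add, map_add, Submodule.projection_apply_of_mem_left h.complA ha,
        (Submodule.projection_apply_eq_zero_iff h.complA).2 (Submodule.mem_sup_right hx),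
        (Submodule.projection_apply_eq_zero_iff h.complA).2 (Submodule.mem_sup_left hb), add_zero, zero_add]
    have e3 : B.projection (A ⊔ fixP P) h.complB (x + a + b) = b := by
      rw [map_add, map_add, Submodule.projection_apply_of_mem_left h.complB hb,
        (Submodule.projection_apply_eq_zero_iff h.complB).2 (Submodule.mem_sup_right hx),
        (Submodule.projection_apply_eq_zero_iff h.complB).2 (Submodule.mem_sup_left ha), zero_add, zero_add]
    show L ((fixP P).projection (A ⊔ B) h.c (x + a + b)) + (c • A.projection (B ⊔ fixP P) h.complA (x + a + b) +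
      B.projection (A ⊔ fixP P) h.complB (x + a + b)) = _
    rw [e1, e2, e3, add_assoc]
  have hinj : Function.Injective z₀ := by
    rw [← LinearMap.ker_eq_bot, LinearMap.ker_eq_bot']
    intro v hv
    obtain ⟨x, hx, a, ha, b, hb, rfl⟩ := h.dec v
    rw [hz₀ x hx a ha b hb] at hv
    obtain ⟨h1, h2, h3⟩ := h.uniq (hL0 x hx) (A.smul_mem c ha) hb hv
    rw [L.map_eq_zero_iff] at h1
    rw [smul_eq_zero, or_iff_right hc] at h2
    rw [h1, h2, h3, add_zero, add_zero]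
  refine ⟨LinearEquiv.ofInjectiveEndo z₀ hinj, fun v => ?_, fun g hg v => ?_⟩
  · rw [LinearEquiv.coe_ofInjectiveEndo]
    obtain ⟨x, hx, a, ha, b, hb, rfl⟩ := h.dec v
    rw [hz₀ x hx a ha b hb, h.Q_eq (hL0 x hx) (A.smul_mem c ha) hb, h.Q_eq hx ha hb, hL, polar_smul_left,
      smul_eq_mul, mul_add]
  · rw [LinearEquiv.coe_ofInjectiveEndo]
    obtain ⟨x, hx, a, ha, b, hb, rfl⟩ := h.dec v
    have e1 : g (x + a + b) = g x + g a + g b := by rw [map_add, map_add]
    rw [e1, hz₀ _ (inv_fixP P g hg x hx) _ (h.invA g hg a ha) _ (h.invB g hg b hb), hz₀ x hx a ha b hb,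
      map_add, map_add, map_smul, hx g hg, hL0 x hx g hg]

end sim

section hull

variable {p : ℕ} [Fact p.Prime] (T : Subgroup ↥(E Q))

/-- the group of linear maps -/
def TL : Subgroup (V ≃ₗ[F] V) := T.map (E Q).subtype

theorem TL_le_O : TL T ≤ O Q := by
  rintro _ ⟨t, -, rfl⟩
  exact E_le_O t.2

/-- the image in `P Q` -/
def TP : Subgroup (P Q) := T.map (QuotientGroup.mk' (Subgroup.center ↥(E Q)))

/-- the classes of the automorphisms which are trivial on `TP` -/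
def RR : Subgroup (Cfsg.Out (P Q)) :=
  ({ carrier := {α : MulAut (P Q) | ∀ x ∈ TP T, α x = x}
     one_mem' := fun x _ => rfl
     mul_mem' := fun {α β} hα hβ x hx => by
       change α (β x) = x
       rw [hβ x hx, hα x hx]
     inv_mem' := fun {α} hα x hx => by
       have h1 := hα x hx
       have h2 : α⁻¹ (α x) = x := α.symm_apply_apply x
       rw [h1] at h2
       exact h2 } : Subgroup (MulAut (P Q))).map (QuotientGroup.mk' (Cfsg.Inn (P Q)))

theorem mem_RR {α : MulAut (P Q)} (h : ∀ x ∈ TP T, α x = x) : QuotientGroup.mk' (Cfsg.Inn (P Q)) α ∈ RR T := ⟨α, h, rfl⟩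

theorem mem_RR_of_comm {M : Gam Q} (h : ∀ t ∈ TL T, ∀ v, M.1 (t v) = t (M.1 v)) : out Q M ∈ RR T := by
  refine mem_RR T ?_
  rintro _ ⟨t, ht, rfl⟩
  rw [QuotientGroup.mk'_apply, Psi_mk]
  congr 1
  apply Subtype.ext
  rw [coe_conjE]
  apply LinearEquiv.ext
  intro v
  rw [conjLin_apply]
  have h1 := h _ ⟨t, ht, rfl⟩ (M.1⁻¹ v)
  rw [apply_inv] at h1
  exact h1

theorem exists_of_mem_RR {M : Gam Q} (h : out Q M ∈ RR T) : ∃ s : P Q, ∀ x ∈ TP T, Psi Q M x = s * x * s⁻¹ := by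
  obtain ⟨α, hα, e⟩ := h
  have e' : (QuotientGroup.mk α : MulAut (P Q) ⧸ Cfsg.Inn (P Q)) = QuotientGroup.mk (Psi Q M) := e
  rw [QuotientGroup.eq] at e'
  obtain ⟨s, hs⟩ := e'
  have h1 : Psi Q M = α * MulAut.conj s := by rw [hs, mul_inv_cancel_left]
  refine ⟨α s, fun x hx => ?_⟩
  rw [h1, MulAut.mul_apply, MulAut.conj_apply, map_mul, map_mul, map_inv, hα x hx]

theorem rf_mem {v : V} (hv : Q v ≠ 0) (h : v ∈ fixP (TL T)) : out Q (rf v hv) ∈ RR T := by
  refine mem_RR_of_comm T fun t ht x => ?_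
  have hO := TL_le_O T ht
  rw [rf_apply, rf_apply, refl_apply, refl_apply, map_sub, map_smul, h t ht]
  congr 3
  have h1 := polar_map hO v x
  rw [h t ht] at h1
  exact h1

/-- every isometry -/
theorem ofO_mem [FiniteDimensional F V] (hG : Good Q)
    (hsq : ∀ w : V, Q w ≠ 0 → ∃ v ∈ fixP (TL T), ∃ s : F, Q v ≠ 0 ∧ Q w = s * s * Q v) (g : O Q) :
    out Q (ofO Q g) ∈ RR T := by
  refine out_ofO_mem hG (fun w hw => ?_) g
  obtain ⟨v, hv, s, hv0, hs⟩ := hsq w hw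
  rw [← out_rf_of_square hG hv0 hw hs]
  exact rf_mem T hv0 hv

/-- the linear map of a similitude -/
def linS {M : Gam Q} {c : F} (h : IsSS Q (RingEquiv.refl F) c M.1) : V ≃ₗ[F] V :=
  { M.1 with
    map_add' := h.add
    map_smul' := fun a v => h.smul a v }

theorem linS_apply {M : Gam Q} {c : F} (h : IsSS Q (RingEquiv.refl F) c M.1) (v : V) : linS h v = M.1 v := rfl

end hull

section main

variable {p : ℕ} [Fact p.Prime]

/-- **every similitude** -/
theorem sim_mem [Finite V] [FiniteDimensional F V] (hG : Good Q) (T : Sylow p ↥(E Q)) {A B : Submodule F V}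
    (hf : LinFr Q (TL (T : Subgroup ↥(E Q))) A B)
    (hsq : ∀ w : V, Q w ≠ 0 → ∃ v ∈ fixP (TL (T : Subgroup ↥(E Q))), ∃ s : F, Q v ≠ 0 ∧ Q w = s * s * Q v)
    {M : Gam Q} {c : F} (hM : IsSS Q (RingEquiv.refl F) c M.1) : out Q M ∈ RR (T : Subgroup ↥(E Q)) := by
  have hfinE : Finite (V ≃ₗ[F] V) := Finite.of_injective (fun g => g.toEquiv)
    fun g h e => LinearEquiv.toEquiv_injective e
  obtain ⟨h, hh⟩ := MulAction.exists_smul_eq ↥(E Q) (conjE Q M • T) T
  -- `M' = h M` normalises `T`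
  have hM' := (isSS_ofO (Q := Q) ⟨h.1, E_le_O h.2⟩).mul hM
  set M' : Gam Q := ofO Q ⟨h.1, E_le_O h.2⟩ * M with hM'def
  have e1 : (RingEquiv.refl F).trans (RingEquiv.refl F) = RingEquiv.refl F := rfl
  have e2 : (1 : F) * (RingEquiv.refl F) c = c := one_mul c
  rw [e1, e2] at hM'
  change IsSS Q (RingEquiv.refl F) c M'.1 at hM'
  have hnorm : ∀ t ∈ (T : Subgroup ↥(E Q)), ∃ t' ∈ (T : Subgroup ↥(E Q)), ∀ v, t.1 (M'.1 v) = M'.1 (t'.1 v) := by
    intro t ht
    have ht' : t ∈ ((h • (conjE Q M • T) : Sylow p ↥(E Q)) : Subgroup ↥(E Q)) := by rw [hh]; exact ht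
    obtain ⟨t1, ht1, rfl⟩ := ht'
    obtain ⟨t2, ht2, rfl⟩ := ht1
    refine ⟨t2, ht2, fun v => ?_⟩
    show (h.1 * (conjE Q M t2).1 * h.1⁻¹) (h.1 (M.1 v)) = h.1 (M.1 (t2.1 v))
    rw [coe_conjE]
    have e3 : (h.1 * conjLin M t2.1 * h.1⁻¹) (h.1 (M.1 v)) = h.1 (conjLin M t2.1 (h.1⁻¹ (h.1 (M.1 v)))) := rfl
    have e4 : h.1⁻¹ (h.1 (M.1 v)) = M.1 v := LinearEquiv.symm_apply_apply h.1 (M.1 v)
    rw [e3, e4, conjLin_apply']
  obtain ⟨z, hz1, hz2⟩ := hf.exists_sim hM'.ne (linS hM') (fun v => hM'.form v) (by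
    intro v hv g hg
    obtain ⟨t, ht, rfl⟩ := hg
    obtain ⟨t', ht', h1⟩ := hnorm t ht
    show t.1 (M'.1 v) = M'.1 v
    rw [h1 v]
    congr 1
    exact hv t'.1 ⟨t', ht', rfl⟩)
  have hzS : IsSS Q (RingEquiv.refl F) c z.toEquiv :=
    ⟨hM'.ne, fun u v => map_add z u v, fun a v => map_smul z a v, fun v => hz1 v⟩
  let zM : Gam Q := ⟨z.toEquiv, _, _, hzS⟩
  have h1 : out Q zM ∈ RR (T : Subgroup ↥(E Q)) := mem_RR_of_comm _ fun t ht v => hz2 t ht v
  have h2 := hM'.mul hzS.inv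
  have e3 : (RingEquiv.refl F).symm.trans (RingEquiv.refl F) = RingEquiv.refl F := rfl
  have e4 : c * (RingEquiv.refl F) ((RingEquiv.refl F).symm c⁻¹) = 1 := mul_inv_cancel₀ hM'.ne
  rw [e3, e4] at h2
  obtain ⟨g, hg⟩ := exists_ofO (M := M' * zM⁻¹) h2
  have h3 := ofO_mem (T : Subgroup ↥(E Q)) hG hsq g
  have h4 := ofO_mem (T : Subgroup ↥(E Q)) hG hsq ⟨h.1, E_le_O h.2⟩
  have h5 : M = (ofO Q ⟨h.1, E_le_O h.2⟩)⁻¹ * (ofO Q g * zM) := by
    rw [hg, inv_mul_cancel_right, hM'def, inv_mul_cancel_left]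
  rw [h5, map_mul, map_mul, map_inv]
  exact mul_mem (inv_mem h4) (mul_mem h3 h1)

/-- **Similitudes act on `T` as elements of `P Q`.** -/
theorem act_of_sim [Finite V] [FiniteDimensional F V] (hG : Good Q) (T : Sylow p ↥(E Q)) {A B : Submodule F V}
    (hf : LinFr Q (TL (T : Subgroup ↥(E Q))) A B)
    (hsq : ∀ w : V, Q w ≠ 0 → ∃ v ∈ fixP (TL (T : Subgroup ↥(E Q))), ∃ s : F, Q v ≠ 0 ∧ Q w = s * s * Q v)
    (M : Gam Q) (hM : sg hG M = 1) : ∃ s : P Q, ∀ x ∈ TP (T : Subgroup ↥(E Q)), Psi Q M x = s * x * s⁻¹ := by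
  obtain ⟨σ, c, hMc⟩ := M.2
  have hσ : σ = RingEquiv.refl F := by rw [← sg_eq hG hMc, hM]; rfl
  subst hσ
  exact exists_of_mem_RR _ (sim_mem hG T hf hsq hMc)

end main

end Cfsg.Agent.H914.XR
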