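import Cfsg.Agent.H914.XR.TwoB
import Cfsg.Agent.H674.XZ.PAbL
import Cfsg.Agent.H324.AP.POm
import Cfsg.Agent.H508.XR.Defs2

/-!
# S4791 + S4927, orthogonal groups `S = E Q / Z(E Q)` : abelian Sylow subgroups, two blocks (helper914)

`E = dSp p |F|`:
* `ab_of_lt` : `dim V < p E` : the Sylow `p`-subgroups of `S` are abelian;
* `blk_of_nc` : Sylow `p`-subgroups not cyclic: `dim C_V(T) + 2 E ≤ dim V` for some `p`-group `T` of isometries.
-/

set_option autoImplicit false
set_option linter.unusedSectionVars false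

open Cfsg Subgroup Module QuadraticMap

namespace Cfsg.Agent.H914.XR.OrthS

open Cfsg.Agent.H443.XC Cfsg.Agent.H324.AP
open Cfsg.Agent.H508.XR (NC)
open Cfsg.Agent.LieClassical.OrthCore Cfsg.Agent.LieClassical.OrthTrans Cfsg.Agent.LieClassical.OrthForms
open Cfsg.Agent.LieClassical.OrthFinite

universe u

variable {p r : ℕ} [hp : Fact p.Prime] [hr : Fact r.Prime] {F V : Type*} [Field F] [Fintype F]
  [CharP F r] [AddCommGroup V] [Module F V] [Finite V] {Q : QuadraticForm F V} {S : Type u} [Group S] [Finite S]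

/-- `E Q → S` -/
def pi (e : S ≃* (↥(E Q) ⧸ center ↥(E Q))) : ↥(E Q) →* S :=
  (e.symm.toMonoidHom).comp (QuotientGroup.mk' (center ↥(E Q)))

theorem pi_surj (e : S ≃* (↥(E Q) ⧸ center ↥(E Q))) : Function.Surjective (pi e) :=
  e.symm.surjective.comp (QuotientGroup.mk'_surjective _)

/-- the action -/
def rho (Q : QuadraticForm F V) : ↥(E Q) →* Module.End F V :=
  (LinearEquiv.automorphismGroup.toLinearMapMonoidHom).comp (E Q).subtype

theorem rho_apply (x : ↥(E Q)) (v : V) : rho Q x v = (x : V ≃ₗ[F] V) v := rfl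

omit [Fintype F] [Finite V] in
theorem rho_inj : Function.Injective (rho Q) := by
  intro x y hxy
  apply Subtype.ext
  apply LinearEquiv.ext
  intro v
  exact LinearMap.congr_fun hxy v

omit hr in
theorem cast_ne (hrp : r ≠ p) (hr : r.Prime) : (p : F) ≠ 0 := by
  intro h
  have h1 : r ∣ p := (CharP.cast_eq_zero_iff F r p).1 h
  exact hrp ((Nat.prime_dvd_prime_iff_eq hr hp.out).1 h1)

/-- odd order: `p` does not divide `q ^ j + 1` -/
theorem not_dvd_of_odd {q : ℕ} (h2 : p ≠ 2) (ho : Odd (orderOf (q : ZMod p))) (j : ℕ) : ¬ p ∣ q ^ j + 1 := by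
  intro h
  rw [← ZMod.natCast_eq_zero_iff] at h
  push_cast at h
  have h1 : (q : ZMod p) ^ j = -1 := eq_neg_of_add_eq_zero_left h
  have h3 : ((q : ZMod p) ^ orderOf (q : ZMod p)) = 1 := pow_orderOf_eq_one _
  have h4 : (-1 : ZMod p) ^ orderOf (q : ZMod p) = 1 := by
    rw [← h1, ← pow_mul, mul_comm, pow_mul, h3, one_pow]
  rw [ho.neg_one_pow] at h4
  have h5 : ((2 : ℕ) : ZMod p) = 0 := by
    push_cast
    linear_combination -h4
  rw [ZMod.natCast_eq_zero_iff] at h5
  exact h2 ((Nat.prime_dvd_prime_iff_eq hp.out Nat.prime_two).1 h5)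

/-- **Abelian Sylow subgroups** -/
theorem ab_of_lt (hrp : r ≠ p) (hp2 : p ≠ 2) (hQ : Nondeg Q) (e : S ≃* (↥(E Q) ⧸ center ↥(E Q)))
    (hlt : finrank F V < p * dSp p (Nat.card F)) : AbSyl p S := by
  have hfinE : Finite (V ≃ₗ[F] V) := Finite.of_injective (fun g : V ≃ₗ[F] V => (g : V → V)) DFunLike.coe_injective
  have hfd : FiniteDimensional F V := inferInstance
  have hpF : (p : F) ≠ 0 := cast_ne hrp hr.out
  intro P
  unfold dSp at hlt
  by_cases he : Even (orderOf (Nat.card F : ZMod p))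
  · rw [if_pos he, Nat.card_eq_fintype_card] at hlt
    exact H674.XZ.Iso.comm_of_lt hpF (pi e) (pi_surj e) (rho Q) rho_inj hlt P
  · rw [if_neg he] at hlt
    have ho := Nat.not_even_iff_odd.1 he
    rw [Nat.card_eq_fintype_card] at hlt ho
    refine H674.XZ.Iso.comm_of_lt_lin (r := r) (s := 0) hpF (RingEquiv.refl F) (fun a => by simp)
      (fun j => by rw [pow_zero]; exact not_dvd_of_odd hp2 ho j) (pi e) (pi_surj e) (rho Q) rho_inj
      (B := fun u v => polar Q u v) (fun u u' v => polar_add_left Q u u' v) (fun u v v' => polar_add_right Q u v v')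
      (fun a u v => polar_smul_left Q a u v) (fun a u v => polar_smul_right Q a u v)
      (fun x u v => ?_) (fun u hu => hQ u hu) ?_ P
    · exact polar_map (E_le_O x.2) u v
    · calc finrank F V < p * (2 * orderOf (Fintype.card F : ZMod p)) := hlt
        _ = 2 * (p * orderOf (Fintype.card F : ZMod p)) := by ring

/-- **Two blocks** -/
theorem blk_of_nc (hrp : r ≠ p) (hp2 : p ≠ 2) (hQ : Nondeg Q) (e : S ≃* (↥(E Q) ⧸ center ↥(E Q))) (hP : NC p S) :
    ∃ T : Subgroup (V ≃ₗ[F] V), T ≤ O Q ∧ IsPGroup p T ∧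
      finrank F (fixP T) + 2 * dSp p (Nat.card F) ≤ finrank F V := by
  have hfinE : Finite (V ≃ₗ[F] V) := Finite.of_injective (fun g : V ≃ₗ[F] V => (g : V → V)) DFunLike.coe_injective
  have hpF : (p : F) ≠ 0 := cast_ne hrp hr.out
  obtain ⟨T⟩ : Nonempty (Sylow p ↥(E Q)) := inferInstance
  have hnc : ¬ IsCyclic (T : Subgroup ↥(E Q)) := by
    intro h
    apply hP (T.mapSurjective (pi_surj e))
    have h1 : Function.Surjective ((pi e).subgroupMap (T : Subgroup ↥(E Q))) := (pi e).subgroupMap_surjective _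
    exact isCyclic_of_surjective ((pi e).subgroupMap (T : Subgroup ↥(E Q))) h1
  refine ⟨(T : Subgroup ↥(E Q)).map (E Q).subtype, ?_, T.2.map _, ?_⟩
  · rintro _ ⟨x, -, rfl⟩
    exact E_le_O x.2
  · refine TwoB.two_blocks hp2 hpF (splF_of_spl (Cfsg.Agent.H418.KB.spl_O hQ)) ?_ ?_ (T.2.map _) ?_
    · unfold dSp
      by_cases he : Even (orderOf (Nat.card F : ZMod p))
      · rw [if_pos he]
        exact Or.inl rfl
      · rw [if_neg he]
        exact Or.inr ⟨Nat.not_even_iff_odd.1 he, rfl⟩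
    · rintro _ ⟨x, -, rfl⟩
      exact E_le_O x.2
    · intro h
      exact hnc (((T : Subgroup ↥(E Q)).equivMapOfInjective (E Q).subtype (E Q).subtype_injective).symm.isCyclic.1 h)

end Cfsg.Agent.H914.XR.OrthS
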