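import Cfsg.Agent.H914.XR.Over
import Cfsg.Agent.H684.BlockTools
import Cfsg.Agent.H747.Yoshida
import Cfsg.Agent.Transfer.TateComplement
import Cfsg.Agent.Characters.Linear

/-!
# S4791 + S4927, R0a, R0b: one more member of `X0(G)` (helper914)

* `mem0_hom` : the linear characters of order `p` of a `p`-group lie in `X0`;
* `exists_of_hom` : a homomorphism of a Sylow subgroup to `ℤ/p` which is not trivial on `K ⊓ P`: a member of `X0(G)`
  without `K` in its kernel;
* `hext` : for `P` noncyclic and `P K / K` cyclic (any normal subgroup `K`);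
* `exists_hom` (Tate) for a nonabelian minimal normal subgroup of order divisible by `p`;
* `lt_of_pgroup`, `lt_of_nonab` : the stubs R0a, R0b.
-/

set_option autoImplicit false
set_option maxHeartbeats 400000
set_option linter.unusedSectionVars false

namespace Cfsg.Agent.H914.XR

open Cfsg Subgroup
open Cfsg.Agent.H674.XZ
open Cfsg.Agent.Blocks.Blau Cfsg.Agent.Blocks.Local Cfsg.Agent.Characters Cfsg.Agent.Characters.Core
open scoped ComplexConjugate

universe u

variable {p : ℕ} [hp : Fact p.Prime] {M : Ideal AlgInt}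

/-- linear characters of order `p` of `p`-groups -/
theorem mem0_hom (hM : IsPModular p M) {P : Type u} [Group P] [Finite P] (hP : IsPGroup p P) (f : P →* ℂˣ)
    (hf : ∀ x, f x ^ p = 1) : Mem0 p M (⟨fun g => (f g : ℂ), Linear.isIrrCharacter_hom f⟩ : IrrCharacter P) := by
  have := Fintype.ofFinite P
  refine ⟨(H893.Sd.mem_iff hM _).2 ?_, ?_, ?_⟩
  · rw [Finset.sum_eq_single (1 : P)]
    · rw [regPart_of_not_dvd (by rw [orderOf_one]; exact hp.out.one_lt.ne' ∘ Nat.dvd_one.1)]
      change ((f 1 : ℂˣ) : ℂ) ≠ 0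
      exact Units.ne_zero _
    · intro b _ hb
      apply regPart_of_dvd
      obtain ⟨k, hk⟩ := (IsPGroup.iff_orderOf.1 hP) b
      rw [hk]
      refine dvd_pow_self p ?_
      rintro rfl
      rw [pow_zero, orderOf_eq_one_iff] at hk
      exact hb hk
    · intro h
      exact absurd (Finset.mem_univ _) h
  · have h1 : charDegree ((⟨fun g => (f g : ℂ), Linear.isIrrCharacter_hom f⟩ : IrrCharacter P) : P → ℂ) = 1 := by
      apply Cfsg.Agent.Blocks.Basic.charDegree_of_eq
      change ((f 1 : ℂˣ) : ℂ) = _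
      rw [map_one, Units.val_one, Nat.cast_one]
    rw [h1]
    exact hp.out.one_lt.ne' ∘ Nat.dvd_one.1
  · refine ⟨p, hp.out.pos, fun h => ?_, fun g => ?_⟩
    · have h1 := Nat.le_of_dvd hp.out.pos h
      have h2 := hp.out.two_le
      nlinarith
    · have hprim := Complex.isPrimitiveRoot_exp p hp.out.ne_zero
      have h1 : (f g : ℂ) ^ p = 1 := by
        rw [← Units.val_pow_eq_pow_val, hf, Units.val_one]
      obtain ⟨i, -, hi⟩ := hprim.eq_pow_of_pow_eq_one h1
      change (f g : ℂ) ∈ _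
      rw [← hi]
      exact pow_mem (IntermediateField.subset_adjoin ℚ _ (Set.mem_singleton _)) i

section

variable {G : Type u} [Group G] [Finite G]

/-- a member of `X0(G)` without `K` in its kernel -/
theorem exists_of_hom (hM : IsPModular p M) (P : Sylow p G) (K : Subgroup G)
    (δ : P →* Multiplicative (ZMod p)) (y : P) (hy : (y : G) ∈ K) (hδ : δ y ≠ 1) :
    ∃ χ : IrrCharacter G, Mem0 p M χ ∧ ∃ k ∈ K, (χ : G → ℂ) k ≠ (χ : G → ℂ) 1 := by
  classical
  have hFin : Finite (Multiplicative (ZMod p)) := inferInstanceAs (Finite (ZMod p))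
  obtain ⟨φ, hφ⟩ := CommGroup.exists_apply_ne_one_of_hasEnoughRootsOfUnity (Multiplicative (ZMod p)) ℂ hδ
  set f : P →* ℂˣ := φ.comp δ with hf
  have hfp : ∀ x, f x ^ p = 1 := by
    intro x
    rw [hf, MonoidHom.comp_apply, ← map_pow]
    have h1 : (δ x) ^ p = 1 := by
      apply Multiplicative.toAdd.injective
      rw [toAdd_pow, toAdd_one, nsmul_eq_mul, CharP.cast_eq_zero, zero_mul]
    rw [h1, map_one]
  have hη := mem0_hom hM P.isPGroup' f hfp
  set η : IrrCharacter (P : Subgroup G) := ⟨fun g => (f g : ℂ), Linear.isIrrCharacter_hom f⟩ with hηd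
  obtain ⟨χ, hχ, m, hm, hsum⟩ := exists_over_H hM (P : Subgroup G) P.not_dvd_index η hη
  refine ⟨χ, hχ, ?_⟩
  by_contra hcon
  push Not at hcon
  have := Fintype.ofFinite (P : Subgroup G)
  rw [finsum_eq_sum_of_fintype] at hsum
  have h1 : ∑ h : (P : Subgroup G), (χ : G → ℂ) h * conj ((η : ↥(P : Subgroup G) → ℂ) h) =
      conj (f y : ℂ) * ∑ h : (P : Subgroup G), (χ : G → ℂ) h * conj ((η : ↥(P : Subgroup G) → ℂ) h) := by
    rw [Finset.mul_sum]
    refine Fintype.sum_equiv (Equiv.mulLeft y⁻¹) _ _ fun x => ?_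
    change (χ : G → ℂ) (x : G) * conj (f x : ℂ) = conj (f y : ℂ) * ((χ : G → ℂ) (((y⁻¹ * x : (P : Subgroup G))) : G) *
      conj (f (y⁻¹ * x) : ℂ))
    have h2 : (χ : G → ℂ) (((y⁻¹ * x : (P : Subgroup G))) : G) = (χ : G → ℂ) (x : G) := by
      rw [Subgroup.coe_mul]
      refine H628.PPrimeKer.apply_mul_eq χ.2 ?_ _
      rw [Subgroup.coe_inv]
      exact hcon _ (K.inv_mem hy)
    rw [h2, map_mul, Units.val_mul, map_mul, map_inv]
    have h3 : conj (f y : ℂ) * conj (((f y)⁻¹ : ℂˣ) : ℂ) = 1 := by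
      rw [← map_mul, ← Units.val_mul, mul_inv_cancel, Units.val_one, map_one]
    linear_combination (-(χ : G → ℂ) (x : G) * conj (f x : ℂ)) * h3
  rw [hsum] at h1
  have hm0 : (m : ℂ) * Nat.card (P : Subgroup G) ≠ 0 := by
    refine mul_ne_zero (Nat.cast_ne_zero.2 ?_) (Nat.cast_ne_zero.2 Nat.card_pos.ne')
    rintro rfl
    exact hm (dvd_zero p)
  have h4 : conj (f y : ℂ) = 1 := by
    have h5 : (conj (f y : ℂ) - 1) * ((m : ℂ) * Nat.card (P : Subgroup G)) = 0 := by
      linear_combination -h1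
    exact sub_eq_zero.1 ((mul_eq_zero.1 h5).resolve_right hm0)
  have h6 : (f y : ℂ) = 1 := by
    have := congrArg conj h4
    rwa [Complex.conj_conj, map_one] at this
  exact hφ (Units.ext h6)

/-- a noncyclic `p`-group with a cyclic quotient -/
theorem exists_hom_of_quot (P : Sylow p G) (K : Subgroup G) [K.Normal] (hP : ¬ IsCyclic (P : Subgroup G))
    (hQ : ∀ Q : Sylow p (G ⧸ K), IsCyclic (Q : Subgroup (G ⧸ K))) :
    ∃ (δ : P →* Multiplicative (ZMod p)) (y : P), (y : G) ∈ K ∧ δ y ≠ 1 := by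
  have hPp : IsPGroup p P := P.isPGroup'
  obtain ⟨y, hy, hyF⟩ : ∃ y : P, (y : G) ∈ K ∧ y ∉ frattini P := by
    by_contra hcon
    push Not at hcon
    apply hP
    let g : P →* G ⧸ K := (QuotientGroup.mk' K).comp (P : Subgroup G).subtype
    have h1 : IsPGroup p g.range := hPp.of_surjective g.rangeRestrict g.rangeRestrict_surjective
    obtain ⟨Q, hQ'⟩ := h1.exists_le_sylow
    have hc := hQ Q
    have h2 : IsCyclic g.range := by
      have := isCyclic_of_injective (Subgroup.inclusion hQ') (Subgroup.inclusion_injective hQ')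
      exact this
    obtain ⟨⟨_, x, rfl⟩, hx⟩ := h2.exists_generator
    have h3 : zpowers x = ⊤ := by
      apply frattini_nongenerating
      rw [eq_top_iff]
      intro z _
      obtain ⟨n, hn⟩ := mem_zpowers_iff.1 (hx ⟨g z, z, rfl⟩)
      have h4 : g (x ^ n) = g z := by
        have := congrArg Subtype.val hn
        rw [map_zpow]
        simpa using this
      have h5 : g ((x ^ n)⁻¹ * z) = 1 := by
        rw [map_mul, map_inv, h4, inv_mul_cancel]
      have h6 : (((x ^ n)⁻¹ * z : P) : G) ∈ K := (QuotientGroup.eq_one_iff _).1 h5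
      have h7 : z = x ^ n * ((x ^ n)⁻¹ * z) := by group
      rw [h7]
      exact mul_mem (mem_sup_left (zpow_mem (mem_zpowers x) n)) (mem_sup_right (hcon _ h6))
    exact ⟨x, fun z => by
      show z ∈ zpowers x
      rw [h3]
      exact mem_top z⟩
  obtain ⟨θ, -, hθ⟩ := H747.exists_hom_zmod hPp le_rfl hyF
  exact ⟨θ, y, hy, hθ⟩

/-- **`hext` of `H668.XZ.reduce_lt`** -/
theorem hext (hM : IsPModular p M) (K : Subgroup G) [K.Normal] (P : Sylow p G) (hP : ¬ IsCyclic (P : Subgroup G))
    (hQ : ∀ Q : Sylow p (G ⧸ K), IsCyclic (Q : Subgroup (G ⧸ K))) :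
    ∃ χ : IrrCharacter G, Mem0 p M χ ∧ ∃ k ∈ K, (χ : G → ℂ) k ≠ (χ : G → ℂ) 1 := by
  obtain ⟨δ, y, h1, h2⟩ := exists_hom_of_quot P K hP hQ
  exact exists_of_hom hM P K δ y h1 h2

omit [Finite G] in
theorem alm_comp' {X Y : Type*} (f : X → Y) {χ : Y → ℂ} (h : Alm p χ) : Alm p (fun x => χ (f x)) := by
  obtain ⟨n, h1, h2, h3⟩ := h
  exact ⟨n, h1, h2, fun g => h3 (f g)⟩

/-- strictness -/
theorem lt_of_exists (hM : IsPModular p M) (K : Subgroup G) [K.Normal]
    (h : ∃ χ : IrrCharacter G, Mem0 p M χ ∧ ∃ k ∈ K, (χ : G → ℂ) k ≠ (χ : G → ℂ) 1) :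
    x0 p M (G ⧸ K) < x0 p M G := by
  obtain ⟨χ, hχ, k, hk, hne⟩ := h
  have hfin : Finite {χ : IrrCharacter G // Mem0 p M χ} := finite_mem0
  have hfin' : Finite {χ : IrrCharacter (G ⧸ K) // Mem0 p M χ} := finite_mem0
  have hinfl : ∀ ψ : IrrCharacter (G ⧸ K), Mem0 p M ψ →
      Mem0 p M (H684.BlockTools.infl (QuotientGroup.mk' K) (QuotientGroup.mk'_surjective K) ψ) := by
    intro ψ hψ
    refine ⟨H684.BlockTools.infl_mem hM _ _ hψ.1, ?_, alm_comp' (QuotientGroup.mk' K) hψ.2.2⟩
    have h2 : charDegree (H684.BlockTools.infl (QuotientGroup.mk' K) (QuotientGroup.mk'_surjective K) ψ : G → ℂ) =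
        charDegree (ψ : G ⧸ K → ℂ) := by
      show ⌊((ψ : G ⧸ K → ℂ) (QuotientGroup.mk' K 1)).re⌋₊ = ⌊((ψ : G ⧸ K → ℂ) 1).re⌋₊
      rw [map_one]
    rw [h2]
    exact hψ.2.1
  let f : Option {χ : IrrCharacter (G ⧸ K) // Mem0 p M χ} → {χ : IrrCharacter G // Mem0 p M χ} := fun x =>
    x.elim ⟨χ, hχ⟩ fun ψ => ⟨H684.BlockTools.infl (QuotientGroup.mk' K) (QuotientGroup.mk'_surjective K) ψ.1,
      hinfl ψ.1 ψ.2⟩
  have hker : ∀ ψ : IrrCharacter (G ⧸ K),
      H684.BlockTools.infl (QuotientGroup.mk' K) (QuotientGroup.mk'_surjective K) ψ ≠ χ := by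
    intro ψ hψ
    apply hne
    rw [← hψ]
    show (ψ : G ⧸ K → ℂ) (QuotientGroup.mk' K k) = (ψ : G ⧸ K → ℂ) (QuotientGroup.mk' K 1)
    rw [(QuotientGroup.mk'_apply K k).trans ((QuotientGroup.eq_one_iff k).2 hk), map_one]
  have hf : Function.Injective f := by
    rintro (_ | a) (_ | b) hab
    · rfl
    · exact absurd (congrArg (fun z : {χ : IrrCharacter G // Mem0 p M χ} => z.1) hab).symm (hker b.1)
    · exact absurd (congrArg (fun z : {χ : IrrCharacter G // Mem0 p M χ} => z.1) hab) (hker a.1)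
    · have h5 : a.1 = b.1 := H684.BlockTools.infl_injective _ (QuotientGroup.mk'_surjective K)
        (congrArg (fun z : {χ : IrrCharacter G // Mem0 p M χ} => z.1) hab)
      rw [Subtype.ext h5]
  have h6 := Nat.card_le_card_of_injective f hf
  rw [Finite.card_option] at h6
  exact h6

end

/-- **R0a** -/
theorem lt_of_pgroup (hM : IsPModular p M) {G : Type u} [Group G] [Finite G] (N : Subgroup G) [N.Normal] (hN : IsPGroup p N)
    (hmin : ∀ K : Subgroup G, K.Normal → K ≤ N → K = ⊥ ∨ K = N)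
    (hnc : ∀ P : Sylow p G, ¬ IsCyclic (P : Subgroup G)) (hc : ∀ P : Sylow p (G ⧸ N), IsCyclic (P : Subgroup (G ⧸ N))) :
    x0 p M (G ⧸ N) < x0 p M G := by
  obtain ⟨P⟩ : Nonempty (Sylow p G) := inferInstance
  exact lt_of_exists hM N (hext hM N P (hnc P) hc)

/-- **Tate**: a homomorphism of a Sylow subgroup to `ℤ/p` which is not trivial on `N ⊓ P`. -/
theorem exists_hom_tate {G : Type u} [Group G] [Finite G] (P : Sylow p G) (N : Subgroup G)
    [hN : N.Normal] (hmin : ∀ K : Subgroup G, K.Normal → K ≤ N → K = ⊥ ∨ K = N)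
    (hna : ¬ ∀ x ∈ N, ∀ y ∈ N, x * y = y * x) (hd : p ∣ Nat.card N) :
    ∃ (δ : P →* Multiplicative (ZMod p)) (x : P), (x : G) ∈ N ∧ δ x ≠ 1 := by
  classical
  by_contra hcon
  push Not at hcon
  have hPle : (P : Subgroup G) ≤ N ⊔ (P : Subgroup G) := le_sup_right
  have hNle : N ≤ N ⊔ (P : Subgroup G) := le_sup_left
  set H := N ⊔ (P : Subgroup G) with hH
  have hMn : (N.subgroupOf H).Normal := inferInstance
  obtain ⟨K, hK1, hK2, hK3⟩ := Transfer.TateComplement.exists_normal_complement (P.subtype hPle) (N.subgroupOf H)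
    (by rw [Sylow.coe_subtype, ← Subgroup.subgroupOf_sup hNle hPle, Subgroup.subgroupOf_self]) (by
      intro δ x hx
      let e : P →* (P.subtype hPle : Sylow p H) :=
        { toFun := fun y => ⟨⟨(y : G), hPle y.2⟩, by
            show _ ∈ (P : Subgroup G).subgroupOf _
            rw [Subgroup.mem_subgroupOf]; exact y.2⟩
          map_one' := rfl
          map_mul' := fun _ _ => rfl }
      have hxP : ((x : H) : G) ∈ (P : Subgroup G) := by
        have h1 : (x : H) ∈ (P : Subgroup G).subgroupOf H := x.2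
        exact Subgroup.mem_subgroupOf.1 h1
      exact hcon (δ.comp e) ⟨_, hxP⟩ (Subgroup.mem_subgroupOf.1 hx))
  have hKN : K.map H.subtype ≤ N := by
    rintro _ ⟨y, hy, rfl⟩
    exact Subgroup.mem_subgroupOf.1 (hK2 hy)
  have hcard : Nat.card (K.map H.subtype) = Nat.card K :=
    Nat.card_congr (K.equivMapOfInjective _ H.subtype_injective).symm.toEquiv
  -- `|K|` is prime to `p`
  have hKidx : ((P.subtype hPle : Sylow p H) : Subgroup H).index = Nat.card K := hK3.index_eq_card
  have hKp : ¬ p ∣ Nat.card K := by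
    rw [← hKidx]
    exact (P.subtype hPle : Sylow p H).not_dvd_index
  -- an element of `N` of order prime to `p` lies in `K`
  have hmem : ∀ x : G, x ∈ K.map H.subtype ↔ x ∈ N ∧ ¬ p ∣ orderOf x := by
    intro x
    constructor
    · intro hx
      refine ⟨hKN hx, fun h => hKp ?_⟩
      rw [← hcard]
      have h1 : orderOf (⟨x, hx⟩ : K.map H.subtype) ∣ Nat.card (K.map H.subtype) := orderOf_dvd_natCard _
      rw [Subgroup.orderOf_mk] at h1
      exact h.trans h1
    · rintro ⟨hx, hox⟩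
      let z : H := ⟨x, hNle hx⟩
      refine ⟨z, ?_, rfl⟩
      -- the image in `H ⧸ K`, a `p`-group
      have h1 : IsPGroup p (H ⧸ K) := by
        have h2 : Nat.card (H ⧸ K) = Nat.card (P.subtype hPle : Sylow p H) := by
          rw [← Subgroup.index_eq_card]
          exact hK3.symm.index_eq_card
        obtain ⟨n, hn⟩ := (IsPGroup.iff_card.1 (P.subtype hPle : Sylow p H).isPGroup')
        exact IsPGroup.of_card (h2.trans hn)
      obtain ⟨k, hk⟩ := (IsPGroup.iff_orderOf.1 h1) (QuotientGroup.mk' K z)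
      have h3 : orderOf (QuotientGroup.mk' K z) ∣ orderOf z := orderOf_map_dvd _ _
      have h4 : orderOf z = orderOf x := Subgroup.orderOf_mk _ _
      rw [h4, hk] at h3
      have h5 : k = 0 := by
        by_contra h6
        exact hox ((dvd_pow_self p h6).trans h3)
      rw [h5, pow_zero, orderOf_eq_one_iff] at hk
      exact (QuotientGroup.eq_one_iff _).1 hk
  have hKn : (K.map H.subtype).Normal := by
    constructor
    intro k hk g
    rw [hmem] at hk ⊢
    refine ⟨hN.conj_mem k hk.1 g, ?_⟩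
    rw [orderOf_conj_eq]
    exact hk.2
  rcases hmin _ hKn hKN with h1 | h1
  · -- `N` is a `p`-group
    have h2 : IsPGroup p N := by
      have h3 : Nat.card K = 1 := by rw [← hcard, h1, Subgroup.card_bot]
      have h4 : Nat.card (P.subtype hPle : Sylow p H) = Nat.card H := by
        have := hK3.card_mul_card
        rw [h3, one_mul] at this
        exact this
      have h5 : ((P.subtype hPle : Sylow p H) : Subgroup H) = ⊤ := Subgroup.eq_top_of_card_eq _ h4
      intro n
      obtain ⟨k, hk⟩ := (P.subtype hPle : Sylow p H).2 ⟨⟨(n : G), hNle n.2⟩, by rw [← Subgroup.mem_carrier]; exact h5 ▸ Subgroup.mem_top _⟩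
      refine ⟨k, Subtype.ext ?_⟩
      exact congrArg (fun z : ↥((P.subtype hPle : Sylow p H) : Subgroup H) => ((z : H) : G)) hk
    -- a nonabelian minimal normal subgroup is perfect
    have hNn : Nontrivial N := by
      rw [← Finite.one_lt_card_iff_nontrivial]
      exact hp.out.one_lt.trans_le (Nat.le_of_dvd Nat.card_pos hd)
    have hcen := h2.center_nontrivial
    have hZn : ((center N).map N.subtype).Normal := inferInstance
    rcases hmin _ hZn (by rintro _ ⟨y, -, rfl⟩; exact y.2) with h3 | h3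
    · rw [Subgroup.map_eq_bot_iff_of_injective _ N.subtype_injective] at h3
      rw [h3] at hcen
      exact not_nontrivial (⊥ : Subgroup N) hcen
    · apply hna
      intro x hx y hy
      rw [← h3] at hx
      obtain ⟨z, hz, rfl⟩ := hx
      have h4 := Subgroup.mem_center_iff.1 hz ⟨y, hy⟩
      exact (congrArg Subtype.val h4).symm
  · rw [← hcard, h1] at hKp
    exact hKp hd

/-- **R0b** -/
theorem lt_of_nonab (hM : IsPModular p M) {G : Type u} [Group G] [Finite G] (N : Subgroup G) [N.Normal]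
    (hmin : ∀ K : Subgroup G, K.Normal → K ≤ N → K = ⊥ ∨ K = N) (hna : ¬ ∀ x ∈ N, ∀ y ∈ N, x * y = y * x)
    (hd : p ∣ Nat.card N) : x0 p M (G ⧸ N) < x0 p M G := by
  obtain ⟨P⟩ : Nonempty (Sylow p G) := inferInstance
  obtain ⟨δ, y, h1, h2⟩ := exists_hom_tate P N hmin hna hd
  exact lt_of_exists hM N (exists_of_hom hM P N δ y h1 h2)

end Cfsg.Agent.H914.XR
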