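import Cfsg.Agent.H796.XZ.LinDefs
import Cfsg.Agent.Nodes.RGDLib

/-!
# S4791 + S4927, linear primes: transport of `LinData` along an isomorphism (helper914)

`Y ≃* Y'` in different universes; `RGD`, `G1 = ⊤`, the orders of the root groups and `LinData` are transported to the images.
-/

set_option autoImplicit false
set_option linter.unusedSectionVars false

open Cfsg Subgroup

namespace Cfsg.Agent.H914.XR.LinMap

open CoxeterSystem Cfsg.Agent.ChevalleyStructure.CoxeterGeom Cfsg.Agent.Tits.Roots Cfsg.Agent.Tits.Core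
  Cfsg.Agent.Tits.Exchange Cfsg.Agent.Nodes.Reps Cfsg.Agent.Nodes.BNOf Cfsg.Agent.Nodes.StabComb
  Cfsg.Agent.Nodes.Bruhat Cfsg.Agent.Nodes.OppDec Cfsg.Agent.Nodes.LeviDec Cfsg.Agent.H796.XZ

variable {B : Type*} [Fintype B] [DecidableEq B] {M : CoxeterMatrix B} {W Y Y' : Type*} [Group W] [Group Y] [Group Y']
  (cs : CoxeterSystem M W) {A : B → B → ℤ} (h : IsCartan M A) {T : Subgroup Y} {X : (B → ℤ) → Subgroup Y} (f : Y →* Y')

theorem Sup_map (S : Set (B → ℤ)) : RGD.Sup (fun x => (X x).map f) S = (RGD.Sup X S).map f := by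
  unfold RGD.Sup
  rw [Subgroup.map_iSup]

theorem LJ_map (J : Set B) : LJ cs h (T.map f) (fun x => (X x).map f) J = (LJ cs h T X J).map f := by
  unfold LJ
  rw [Sup_map, Subgroup.map_sup]

theorem PJ_map (J : Set B) : PJ cs h (T.map f) (fun x => (X x).map f) J = (PJ cs h T X J).map f := by
  unfold PJ VJ
  rw [LJ_map, Sup_map, Subgroup.map_sup]

/-- transport of `G1 = ⊤` -/
theorem Sup_top (hf : Function.Surjective f) {S : Set (B → ℤ)} (hG : RGD.Sup X S = ⊤) :
    RGD.Sup (fun x => (X x).map f) S = ⊤ := by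
  rw [Sup_map, hG, Subgroup.map_top_of_surjective _ hf]

/-- transport of the orders -/
theorem card_map_X (hf : Function.Injective f) (x : B → ℤ) : Nat.card ↥((X x).map f) = Nat.card ↥(X x) :=
  Subgroup.card_map_of_injective hf

/-- transport of the root group datum -/
theorem rgd_map {r : ℕ} {n : B → Y} (R : RGD cs h r T n X) (e : Y ≃* Y') :
    RGD cs h r (T.map (e : Y →* Y')) (fun i => e (n i)) (fun x => (X x).map (e : Y →* Y')) :=
  Cfsg.Agent.Nodes.RGDLib.rgd_map_of_injective R (e : Y →* Y') e.injective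

variable {p : ℕ} [Fact p.Prime] [Finite Y] (e : Y ≃* Y')

/-- the image of a Sylow subgroup -/
noncomputable def sylMap (P : Sylow p Y) : Sylow p Y' := P.mapSurjective (f := (e : Y →* Y')) e.surjective

theorem coe_sylMap (P : Sylow p Y) : (sylMap e P : Subgroup Y') = (P : Subgroup Y).map (e : Y →* Y') := rfl

/-- **Transport of `LinData`** -/
theorem linData_map {JA JT : Set B} {P : Sylow p Y} {P₀ : Subgroup Y} (H : LinData cs h T X p JA JT P P₀) :
    LinData cs h (T.map (e : Y →* Y')) (fun x => (X x).map (e : Y →* Y')) p JA JT (sylMap e P) (P₀.map (e : Y →* Y')) where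
  le := by
    rw [coe_sylMap]
    exact Subgroup.map_mono H.le
  conj := by
    rintro _ ⟨g, hg, rfl⟩ _ ⟨x, hx, rfl⟩
    exact ⟨g⁻¹ * x * g, H.conj g hg x hx, by simp⟩
  le_LJ := by
    rw [LJ_map]
    exact Subgroup.map_mono H.le_LJ
  ell := by
    rintro K hK ⟨a, ha, h1⟩
    rw [PJ_map] at ha
    obtain ⟨a, ha, rfl⟩ := ha
    refine H.ell K hK ⟨a, ha, fun x hx => ?_⟩
    have h2 := h1 _ ⟨x, hx, rfl⟩
    rw [PJ_map] at h2
    obtain ⟨y, hy, h3⟩ := h2
    have h4 : (e : Y →* Y') y = (e : Y →* Y') (a⁻¹ * x * a) := by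
      rw [h3, map_mul, map_mul, map_inv]
    have h5 : y = a⁻¹ * x * a := e.injective h4
    rwa [h5] at hy
  comm := by
    rintro _ ⟨x, hx, rfl⟩ g hg
    rw [Sup_map] at hg
    obtain ⟨g, hg, rfl⟩ := hg
    rw [← map_mul, ← map_mul, H.comm x hx g hg]
  cop := by
    rw [Sup_map, Subgroup.card_map_of_injective e.injective]
    exact H.cop
  cen := by
    intro y hy
    obtain ⟨y, rfl⟩ := e.surjective y
    rw [LJ_map]
    refine ⟨y, H.cen ?_, rfl⟩
    rw [Subgroup.mem_centralizer_iff] at hy ⊢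
    intro x hx
    apply e.injective
    rw [map_mul, map_mul]
    exact hy _ ⟨x, hx, rfl⟩

end Cfsg.Agent.H914.XR.LinMap
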