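import Cfsg.Agent.H914.XR.HullB
import Cfsg.Agent.AutOrth.Final

/-!
# S4791 + S4927: the frame of a `p`-subgroup of `O Q` for linear primes (helper914)

* `exists_linFr` : `V = C_V(P) ⊥ (A + B)` if no nondegenerate block without fixed vectors is irreducible;
* `exists_sq` : a nondegenerate subspace of dimension at least 2 has vectors of all square classes.
-/

set_option autoImplicit false
set_option linter.unusedSectionVars false

namespace Cfsg.Agent.H914.XR

open QuadraticMap Module Cfsg.Agent.LieClassical.OrthCore Cfsg.Agent.LieClassical.OrthTrans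
  Cfsg.Agent.LieClassical.OrthSimple Cfsg.Agent.ClassicalGeometry.OrthSemi
  Cfsg.Agent.ClassicalGeometry.OrthSemiCount Cfsg.Agent.ClassicalGeometry.OrthAut1
  Cfsg.Agent.H989.OutOrth.Basic Cfsg.Agent.H324.AP

variable {F V : Type*} [Field F] [AddCommGroup V] [Module F V] {Q : QuadraticForm F V}

/-- an irreducible totally isotropic subspace without fixed vectors is totally singular -/
theorem sing_of_irr {P : Subgroup (V ≃ₗ[F] V)} (hPO : P ≤ O Q) {M : Submodule F V} (hM : Irr P M)
    (hti : ∀ u ∈ M, ∀ v ∈ M, polar Q u v = 0) (hfix : ∀ u ∈ M, u ∈ fixP P → u = 0) : ∀ m ∈ M, Q m = 0 := by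
  let K : Submodule F V :=
    { carrier := {m | m ∈ M ∧ Q m = 0}
      add_mem' := by
        rintro x y ⟨hx, hx'⟩ ⟨hy, hy'⟩
        exact ⟨M.add_mem hx hy, by rw [Q_add, hx', hy', hti x hx y hy]; ring⟩
      zero_mem' := ⟨M.zero_mem, QuadraticMap.map_zero Q⟩
      smul_mem' := by
        rintro a x ⟨hx, hx'⟩
        exact ⟨M.smul_mem a hx, by rw [QuadraticMap.map_smul, hx', smul_zero]⟩ }
  have hKi : Inv P K := by
    rintro g hg x ⟨hx, hx'⟩
    exact ⟨hM.inv g hg x hx, by rw [hPO hg x, hx']⟩
  rcases hM.min K (fun x hx => hx.1) hKi with h | h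
  · exfalso
    apply hM.ne
    rw [eq_bot_iff]
    intro m hm
    refine hfix m hm fun g hg => ?_
    have h1 : g m - m ∈ K := by
      refine ⟨M.sub_mem (hM.inv g hg m hm) hm, ?_⟩
      have h2 : Q (g m - m) = 2 * Q m := by
        have e : g m - m = g m + (-1 : F) • m := by rw [neg_one_smul, sub_eq_add_neg]
        rw [e, Q_add, QuadraticMap.map_smul, hPO hg m, polar_smul_right, hti _ (hM.inv g hg m hm) m hm]
        simp only [smul_eq_mul]
        ring
      rw [h2, ← polar_self', hti m hm m hm]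
    rw [h] at h1
    exact sub_eq_zero.1 h1
  · intro m hm
    rw [← h] at hm
    exact hm.2

theorem iSup_ti {ι : Type*} {M : ι → Submodule F V} (h : ∀ i j, ∀ u ∈ M i, ∀ v ∈ M j, polar Q u v = 0) :
    ∀ u ∈ ⨆ i, M i, ∀ v ∈ ⨆ i, M i, polar Q u v = 0 := by
  have h1 : ∀ i, ∀ u ∈ M i, ∀ v ∈ ⨆ i, M i, polar Q u v = 0 := by
    intro i u hu v hv
    refine Submodule.iSup_induction M (motive := fun v => polar Q u v = 0) hv (fun j v hv => h i j u hu v hv) ?_ ?_
    · exact polar_zero_right Q u
    · intro x y hx hy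
      rw [polar_add_right, hx, hy, add_zero]
  intro u hu v hv
  refine Submodule.iSup_induction M (motive := fun u => polar Q u v = 0) hu (fun i u hu => h1 i u hu v hv) ?_ ?_
  · exact polar_zero_left Q v
  · intro x y hx hy
    rw [polar_add_left, hx, hy, add_zero]

theorem iSup_sing {ι : Type*} {M : ι → Submodule F V} (h : ∀ i j, ∀ u ∈ M i, ∀ v ∈ M j, polar Q u v = 0)
    (hs : ∀ i, ∀ u ∈ M i, Q u = 0) : ∀ u ∈ ⨆ i, M i, Q u = 0 := by
  intro u hu
  have h1 := iSup_ti h
  refine Submodule.iSup_induction' M (motive := fun u _ => Q u = 0) (fun i u hu => hs i u hu) ?_ ?_ hu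
  · exact QuadraticMap.map_zero Q
  · intro x y hx hy ex ey
    rw [Q_add, ex, ey, h1 x hx y hy]
    ring

/-- **The frame.** -/
theorem exists_linFr [Finite V] [FiniteDimensional F V] {p : ℕ} [Fact p.Prime] (hpF : (p : F) ≠ 0) (hQ : Nondeg Q)
    {P : Subgroup (V ≃ₗ[F] V)} (hPO : P ≤ O Q) (hP : IsPGroup p P)
    (hirr : ∀ D : Submodule F V, MinS (fun u v => polar Q u v) P D → (∀ u ∈ D, u ∈ fixP P → u = 0) → ¬ Irr P D) :
    ∃ A B : Submodule F V, LinFr Q P A B := by
  classical
  have h := splF hQ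
  have nd := nd_fix hpF h hPO hP
  obtain ⟨n, D, hD, ho, hs⟩ := exists_frame h hPO (h.inv_perp hPO (inv_fixP P)) (h.nd_perp nd)
  have hc := h.isCompl_perp nd
  have hDW : ∀ i, D i ≤ h.perp (fixP P) := fun i => (le_iSup D i).trans hs.le
  have hfix : ∀ i, ∀ u ∈ D i, u ∈ fixP P → u = 0 := by
    intro i u hu hu'
    have h1 : u ∈ fixP P ⊓ h.perp (fixP P) := ⟨hu', hDW i hu⟩
    rw [hc.inf_eq_bot] at h1
    exact h1
  have htwo : ∀ i, ∃ M N, Two (fun u v => polar Q u v) P (D i) M N := by
    intro i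
    rcases (hD i).irr_or_two hpF h hPO hP with h1 | h1
    · exact absurd h1 (hirr _ (hD i) (hfix i))
    · exact h1
  choose M N hMN using htwo
  have hMD : ∀ i, M i ≤ D i := fun i => (hMN i).sup ▸ le_sup_left
  have hND : ∀ i, N i ≤ D i := fun i => (hMN i).sup ▸ le_sup_right
  have oM : ∀ i j, ∀ u ∈ M i, ∀ v ∈ M j, polar Q u v = 0 := by
    intro i j u hu v hv
    by_cases hij : i = j
    · subst hij
      exact (hMN i).tiM u hu v hv
    · exact ho i j hij u (hMD i hu) v (hMD j hv)
  have oN : ∀ i j, ∀ u ∈ N i, ∀ v ∈ N j, polar Q u v = 0 := by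
    intro i j u hu v hv
    by_cases hij : i = j
    · subst hij
      exact (hMN i).tiN u hu v hv
    · exact ho i j hij u (hND i hu) v (hND j hv)
  have hsup : (⨆ i, M i) ⊔ (⨆ i, N i) = h.perp (fixP P) := by
    rw [← iSup_sup_eq, ← hs]
    exact iSup_congr fun i => (hMN i).sup
  have inv_iSup : ∀ K : Fin n → Submodule F V, (∀ i, Inv P (K i)) → Inv P (⨆ i, K i) := by
    intro K hK g hg w hw
    refine Submodule.iSup_induction K (motive := fun w => g w ∈ ⨆ i, K i) hw
      (fun i w hw => Submodule.mem_iSup_of_mem i (hK i g hg w hw)) ?_ ?_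
    · rw [map_zero]; exact Submodule.zero_mem _
    · intro x y hx hy
      rw [map_add]
      exact Submodule.add_mem _ hx hy
  have tiA := iSup_ti oM
  have tiB := iSup_ti oN
  refine ⟨⨆ i, M i, ⨆ i, N i, ?_⟩
  refine { invA := inv_iSup _ fun i => (hMN i).irrM.inv
           invB := inv_iSup _ fun i => (hMN i).irrN.inv
           QA := iSup_sing oM fun i => sing_of_irr hPO (hMN i).irrM ((hMN i).tiM) fun u hu => hfix i u (hMD i hu)
           QB := iSup_sing oN fun i => sing_of_irr hPO (hMN i).irrN ((hMN i).tiN) fun u hu => hfix i u (hND i hu)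
           oA := ?_, oB := ?_, inf := ?_, c := ?_ }
  · intro v hv a ha
    have h1 : a ∈ h.perp (fixP P) := hsup ▸ Submodule.mem_sup_left ha
    rw [polar_comm]
    exact h1 v hv
  · intro v hv b hb
    have h1 : b ∈ h.perp (fixP P) := hsup ▸ Submodule.mem_sup_right hb
    rw [polar_comm]
    exact h1 v hv
  · rw [eq_bot_iff]
    rintro x ⟨hx, hx'⟩
    have h1 : x ∈ h.perp (fixP P) := hsup ▸ Submodule.mem_sup_left hx
    refine h.nd_perp nd x h1 fun w hw => ?_
    rw [← hsup] at hw
    obtain ⟨a, ha, b, hb, rfl⟩ := Submodule.mem_sup.1 hw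
    show polar Q x (a + b) = 0
    rw [polar_add_right, tiA x hx a ha, tiB x hx' b hb, add_zero]
  · rw [hsup]
    exact hc

theorem exists_ns {W : Submodule F V} (hW : ND (fun u v => polar Q u v) W) (h0 : W ≠ ⊥) : ∃ v ∈ W, Q v ≠ 0 := by
  by_contra hcon
  push Not at hcon
  apply h0
  rw [eq_bot_iff]
  intro v hv
  refine hW v hv fun w hw => ?_
  show polar Q v w = 0
  rw [polar, hcon _ (W.add_mem hv hw), hcon _ hv, hcon _ hw]
  ring

/-- **all square classes** -/
theorem exists_sq [Finite F] [FiniteDimensional F V] {W : Submodule F V} (hW : ND (fun u v => polar Q u v) W)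
    (h2 : 2 ≤ finrank F W) (c : F) (hc : c ≠ 0) : ∃ v ∈ W, ∃ s : F, Q v ≠ 0 ∧ c = s * s * Q v := by
  classical
  have := Fintype.ofFinite F
  have h0 : W ≠ ⊥ := by
    rintro rfl
    rw [finrank_bot] at h2
    omega
  obtain ⟨v, hv, hQv⟩ := exists_ns hW h0
  by_cases hch : ringChar F = 2
  · obtain ⟨s, hs⟩ := FiniteField.isSquare_of_char_two hch (c / Q v)
    exact ⟨v, hv, s, hQv, by rw [← hs, div_mul_cancel₀ _ hQv]⟩
  -- an orthogonal vector
  obtain ⟨u, hu, huv, hQu⟩ : ∃ u ∈ W, polar Q v u = 0 ∧ Q u ≠ 0 := by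
    by_contra hcon
    push Not at hcon
    have h2F : (2 : F) ≠ 0 := Ring.two_ne_zero hch
    have hvv : polar Q v v ≠ 0 := by
      rw [polar_self']
      exact mul_ne_zero h2F hQv
    -- every vector of `W` is a multiple of `v`
    have key : ∀ w ∈ W, w ∈ Submodule.span F {v} := by
      intro w hw
      have hU : ∀ x ∈ W, polar Q v x = 0 → x = 0 := by
        intro x hx hvx
        refine hW x hx fun y hy => ?_
        have e : y = (polar Q v y / polar Q v v) • v + (y - (polar Q v y / polar Q v v) • v) := by abel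
        set y' := y - (polar Q v y / polar Q v v) • v with hy'def
        have hy' : y' ∈ W := W.sub_mem hy (W.smul_mem _ hv)
        have hvy' : polar Q v y' = 0 := by
          rw [hy'def, polar_sub_right, polar_smul_right, smul_eq_mul, div_mul_cancel₀ _ hvv, sub_self]
        show polar Q x y = 0
        rw [e, polar_add_right, polar_smul_right, polar_comm Q x v, hvx, smul_zero, zero_add, polar,
          hcon _ (W.add_mem hx hy') (by rw [polar_add_right, hvx, hvy', add_zero]), hcon x hx hvx, hcon y' hy' hvy']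
        ring
      have h3 := hU (w - (polar Q v w / polar Q v v) • v) (W.sub_mem hw (W.smul_mem _ hv)) (by
        rw [polar_sub_right, polar_smul_right, smul_eq_mul, div_mul_cancel₀ _ hvv, sub_self])
      rw [sub_eq_zero.1 h3]
      exact Submodule.smul_mem _ _ (Submodule.mem_span_singleton_self v)
    have h3 : finrank F W ≤ finrank F (Submodule.span F {v}) := Submodule.finrank_mono key
    have hv0 : v ≠ 0 := by
      rintro rfl
      exact hQv (QuadraticMap.map_zero Q)
    have h4 : finrank F (Submodule.span F {v}) = 1 := finrank_span_singleton hv0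
    omega
  have hodd : Fintype.card F % 2 = 1 := FiniteField.odd_card_of_char_ne_two hch
  obtain ⟨x, y, hxy⟩ := FiniteField.exists_root_sum_quadratic
    (f := Polynomial.C (Q v) * Polynomial.X ^ 2) (g := Polynomial.C (Q u) * Polynomial.X ^ 2 - Polynomial.C c)
    (by rw [Polynomial.degree_C_mul_X_pow 2 hQv]; rfl)
    (by
      rw [Polynomial.degree_sub_C]
      · rw [Polynomial.degree_C_mul_X_pow 2 hQu]; rfl
      · rw [Polynomial.degree_C_mul_X_pow 2 hQu]; norm_num) hodd
  simp only [Polynomial.eval_mul, Polynomial.eval_C, Polynomial.eval_pow, Polynomial.eval_X, Polynomial.eval_sub] at hxy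
  have hval : Q (x • v + y • u) = c := by
    rw [Q_add, QuadraticMap.map_smul, QuadraticMap.map_smul, polar_smul_left, polar_smul_right, huv]
    simp only [smul_eq_mul]
    linear_combination hxy
  exact ⟨x • v + y • u, W.add_mem (W.smul_mem _ hv) (W.smul_mem _ hu), 1, by rw [hval]; exact hc, by
    rw [hval]; ring⟩

end Cfsg.Agent.H914.XR
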