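import Cfsg.Agent.H914.XR.HullC
import Cfsg.Agent.H443.XC.Defs
import Cfsg.Agent.LieRecognition.FieldSemilinear

/-!
# S4791 + S4927: `CycOut` for the orthogonal groups, linear primes (helper914)

* `cycOut_of` : `CycOut p S` from `Φ : Γ → Aut(S)` surjective, `σ : Γ → C`, `C` cyclic, `ker σ` acts on the Sylow
  `p`-subgroups of `S` as elements of `S`;
* `cycOut_of_linFr` : `S ≃ P Q`;
* `cycOut_minus_of` : `PΩ⁻_{2m+2}(q)`, if no nondegenerate block is irreducible.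
-/

set_option autoImplicit false
set_option linter.unusedSectionVars false

namespace Cfsg.Agent.H914.XR

open QuadraticMap Module Cfsg.Agent.LieClassical.OrthCore Cfsg.Agent.LieClassical.OrthTrans
  Cfsg.Agent.LieClassical.OrthSimple Cfsg.Agent.ClassicalGeometry.OrthSemi
  Cfsg.Agent.ClassicalGeometry.OrthSemiCount Cfsg.Agent.ClassicalGeometry.OrthAut1
  Cfsg.Agent.H989.OutOrth.Basic Cfsg.Agent.H324.AP Cfsg.Agent.H443.XC

universe u

/-- **`CycOut`, abstract.** -/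
theorem cycOut_of {p : ℕ} {S : Type u} [Group S] {Γ C : Type*} [Group Γ] [Group C] [Finite C] [IsCyclic C]
    (Φ : Γ →* MulAut S) (hΦ : Function.Surjective Φ) (σ : Γ →* C)
    (h : ∀ (P : Sylow p S) (g : Γ), σ g = 1 → ∃ s : S, ∀ x ∈ (P : Subgroup S), Φ g x = s * x * s⁻¹) : CycOut p S := by
  intro P A _ _
  let H : Subgroup Γ := A.comap Φ
  have hcyc : IsCyclic (H.map σ) := inferInstance
  obtain ⟨⟨c, g₀, hg₀, rfl⟩, hc⟩ := hcyc.exists_generator
  refine ⟨Φ g₀, hg₀, fun β hβ => ?_⟩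
  obtain ⟨g, rfl⟩ := hΦ β
  have h1 := (mem_powers_iff_mem_zpowers).2 (hc ⟨σ g, g, hβ, rfl⟩)
  obtain ⟨k, hk⟩ := h1
  have hk' : (σ g₀) ^ k = σ g := congrArg Subtype.val hk
  have h2 : σ ((g₀ ^ k)⁻¹ * g) = 1 := by
    rw [map_mul, map_inv, map_pow, hk', inv_mul_cancel]
  obtain ⟨s, hs⟩ := h P _ h2
  refine ⟨k, (Φ g₀ ^ k) s, fun x hx => ?_⟩
  have h3 := congrArg (Φ g₀ ^ k) (hs x hx)
  rw [map_mul, map_inv, map_pow, MulAut.mul_apply] at h3
  have h4 : (Φ g₀ ^ k) ((Φ g₀ ^ k)⁻¹ (Φ g x)) = Φ g x := (Φ g₀ ^ k).apply_symm_apply (Φ g x)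
  rw [h4, map_mul, map_mul, map_inv] at h3
  exact h3

/-- **`CycOut` from the frames** -/
theorem cycOut_of_linFr {F V : Type*} [Field F] [AddCommGroup V] [Module F V] {Q : QuadraticForm F V} [Finite F]
    [Finite V] [FiniteDimensional F V] (hG : Good Q) (hsurj : Function.Surjective (Psi Q)) {p : ℕ} [Fact p.Prime]
    {S : Type u} [Group S] (e : P Q ≃* S)
    (hf : ∀ T : Sylow p ↥(E Q), (∃ A B : Submodule F V, LinFr Q (TL (T : Subgroup ↥(E Q))) A B) ∧
      2 ≤ finrank F (fixP (TL (T : Subgroup ↥(E Q))))) (hpF : (p : F) ≠ 0) : CycOut p S := by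
  have hfinE : Finite (V ≃ₗ[F] V) := Finite.of_injective (fun g => g.toEquiv)
    fun g h e => LinearEquiv.toEquiv_injective e
  have hcyc : IsCyclic (RingAut F) := Cfsg.Agent.LieRecognition.FieldSemilinear.isCyclic_ringAut F
  have hfin : Finite (RingAut F) := Finite.of_injective (fun g : F ≃+* F => (g : F → F)) DFunLike.coe_injective
  refine cycOut_of ((MulAut.congr e).toMonoidHom.comp (Psi Q)) ((MulAut.congr e).surjective.comp hsurj) (sg hG)
    fun R g hg => ?_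
  have hsur : Function.Surjective (e.toMonoidHom.comp (QuotientGroup.mk' (Subgroup.center ↥(E Q)))) :=
    e.surjective.comp (QuotientGroup.mk'_surjective _)
  obtain ⟨T, hT⟩ := Sylow.mapSurjective_surjective hsur p R
  obtain ⟨⟨A, B, hAB⟩, h2⟩ := hf T
  have hO := TL_le_O (T : Subgroup ↥(E Q))
  have hpT : IsPGroup p (TL (T : Subgroup ↥(E Q))) := T.2.map _
  have nd := nd_fix hpF (splF hG.nondeg) hO hpT
  obtain ⟨s, hs⟩ := act_of_sim hG T hAB (fun w hw => exists_sq nd h2 (Q w) hw) g hg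
  refine ⟨e s, fun x hx => ?_⟩
  have hx' : x ∈ (T : Subgroup ↥(E Q)).map (e.toMonoidHom.comp (QuotientGroup.mk' (Subgroup.center ↥(E Q)))) := by
    have h3 : ((T.mapSurjective hsur : Sylow p S) : Subgroup S) = R := by rw [hT]
    rw [← Sylow.coe_mapSurjective hsur, h3]
    exact hx
  obtain ⟨t, ht, rfl⟩ := hx'
  have h3 := hs (QuotientGroup.mk t) ⟨t, ht, rfl⟩
  show e (Psi Q g (e.symm (e (QuotientGroup.mk t)))) = e s * e (QuotientGroup.mk t) * (e s)⁻¹
  rw [e.symm_apply_apply, h3, map_mul, map_mul, map_inv]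

open Cfsg.Agent.LieClassical.OrthForms in
/-- **`PΩ⁻`** -/
theorem cycOut_minus_of {F : Type} [Field F] [Finite F] {p : ℕ} [Fact p.Prime] (hpF : (p : F) ≠ 0) {m : ℕ} (hm : 3 ≤ m)
    {a b : F} (hab : ∀ z₁ z₂ : F, z₁ ^ 2 + a * z₁ * z₂ + b * z₂ ^ 2 = 0 → z₁ = 0 ∧ z₂ = 0)
    (hirr : ∀ (P : Subgroup (((Fin m ⊕ Fin m) ⊕ Fin 2 → F) ≃ₗ[F] ((Fin m ⊕ Fin m) ⊕ Fin 2 → F)))
      (D : Submodule F ((Fin m ⊕ Fin m) ⊕ Fin 2 → F)), P ≤ O (minusForm m F a b) → IsPGroup p P →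
      MinS (fun u v => polar (minusForm m F a b) u v) P D → (∀ u ∈ D, u ∈ fixP P → u = 0) → ¬ Irr P D)
    {S : Type u} [Group S] (e : S ≃* Cfsg.POmega F (Cfsg.quadFormMinus m F a b)) : CycOut p S := by
  have hG : Good (minusForm m F a b) := by
    rw [AutOrth.Main.minusForm_eq]
    exact AutOrth.Main.good_minus (by omega) hab
  rw [← coe_minusForm] at e
  refine cycOut_of_linFr hG (AutOrth.Final.surjective_minus hm hab) ((e.trans (AutOrth.Main.pe hG)).symm) (fun T => ?_)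
    hpF
  have hO := TL_le_O (T : Subgroup ↥(E (minusForm m F a b)))
  have hpT : IsPGroup p (TL (T : Subgroup ↥(E (minusForm m F a b)))) := T.2.map _
  obtain ⟨A, B, hAB⟩ := exists_linFr hpF hG.nondeg hO hpT fun D hD hfix => hirr _ D hO hpT hD hfix
  refine ⟨⟨A, B, hAB⟩, ?_⟩
  have hA : finrank F A ≤ m := by
    refine AutOrth.Main.finrank_le_of_TS_minus m a b hab (W := A) ?_
    intro w hw
    have h1 := hAB.QA w hw
    rwa [AutOrth.Main.minusForm_eq] at h1
  have hB : finrank F B ≤ m := by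
    refine AutOrth.Main.finrank_le_of_TS_minus m a b hab (W := B) ?_
    intro w hw
    have h1 := hAB.QB w hw
    rwa [AutOrth.Main.minusForm_eq] at h1
  have h1 := Submodule.finrank_add_eq_of_isCompl hAB.c
  have h2 : finrank F (A ⊔ B : Submodule F _) ≤ finrank F A + finrank F B := Submodule.finrank_add_le_finrank_add_finrank A B
  have h3 : finrank F ((Fin m ⊕ Fin m) ⊕ Fin 2 → F) = 2 * m + 2 := by
    rw [finrank_fintype_fun_eq_card]
    simp
    ring
  omega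

end Cfsg.Agent.H914.XR
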