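import Cfsg.Agent.H674.XZ.AsmB
import Cfsg.Agent.H353.PanO

/-!
# S4791 + S4927, `PΩ⁻` : the unitary primes (helper914)

* `driver_ext` : relative type `B_m`, `p` divides the indices of the maximal parabolic subgroups of the nodes `k ≥ v`;
* `num_uni` : the numbers for `ord_p(q) = 2 d`, `v = wm m d`;
* `row_uni` : the row `PΩ⁻_{2m+2}(q)`, `ord_p(q) = 2 d`, from the number of blocks and the invariant forms.
-/

set_option autoImplicit false
set_option linter.unusedSectionVars false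

open Cfsg Subgroup

namespace Cfsg.Agent.H914.XR.OM

open Cfsg.Agent.H508.KB Cfsg.Agent.H668.XZ Cfsg.Agent.H674.XZ
open CoxeterSystem Cfsg.Agent.ChevalleyStructure.CoxeterGeom Cfsg.Agent.Tits.Roots
  Cfsg.Agent.Nodes.Reps Cfsg.Agent.Nodes.BNOf Cfsg.Agent.Nodes.StabComb Cfsg.Agent.Nodes.Comb
  Cfsg.Agent.Nodes.Bruhat Cfsg.Agent.Nodes.OppDec Cfsg.Agent.Nodes.LeviDec
  Cfsg.Agent.H796.BR Cfsg.Agent.H967.XZ
open Cfsg.Agent.H965.XZ (wm gs)

universe u

section typeB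

variable {m : ℕ} {W : Type*} [Group W] [Finite W] {S : Type u} [Group S] [Finite S]
  {cs : CoxeterSystem (CoxeterMatrix.B m) W} {C : Fin m → Fin m → ℤ} {h : IsCartan (CoxeterMatrix.B m) C} {r p : ℕ}
  {T : Subgroup S} {n : Fin m → S} {X : (Fin m → ℤ) → Subgroup S} {M : Ideal AlgInt} [hr : Fact r.Prime]
  [hp : Fact p.Prime]

/-- **Unitary primes**, type `B_m`, `m ≥ 3`. -/
theorem driver_ext (h11 : 11 ≤ p) (R : RGD cs h r T n X) (hG1 : RGD.Sup X {x | IsRoot cs h x} = ⊤) (hm : 3 ≤ m)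
    (hM : IsPModular p M) (hpS : p ∣ Nat.card S) (hab : AbOut p S) {v : ℕ} (hv : v ≤ m)
    (hd : ∀ k : Fin m, v ≤ (k : ℕ) → p ∣ (PJ cs h T X ({k}ᶜ : Set (Fin m))).index)
    (hnum : 4 * (p - 1) < (m - v + 1) ^ 2 ∨ ∃ e c, e * c = p - 1 ∧ e + 1 ≤ m - v + 1 ∧ FormsE p S e c) :
    Row0 p M S := by
  have hG : GG cs h T X = ⊤ := KFacts.RgdRigid.GG_eq_top hG1
  have hext := extY_B R hG1 hm hM hv hd
  have hs : ∀ a ∈ Finset.Icc v m, a ≤ m ∧ GdC p M cs h T X a := by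
    intro a ha
    rw [Finset.mem_Icc] at ha
    exact ⟨ha.2, gd_of_dvd R hG hM fun k hk => hd k (ha.1.trans hk)⟩
  have hc : (Finset.Icc v m).card = m - v + 1 := by
    rw [Nat.card_Icc]
    omega
  rcases hnum with h2 | ⟨e, c, h1, h2, h4⟩
  · exact row0_of_extY h11 hM hpS hab hext (Or.inl h2)
  · have h5 := num_B h11 R hG hM hpS hs h1 h4
    rw [hc] at h5
    rcases Nat.lt_or_ge e 3 with h6 | h6
    · exact row_e_le_two h11 hM hab h1 (by omega) h2 h5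
    · obtain ⟨N, h7, h8⟩ := H719.XZ.num_of_forms h1 h11 h5
      exact row0_of_extY h11 hM hpS hab hext (Or.inr ⟨e, c, N, h1, h2, h7, h8⟩)

end typeB

/-- the numbers: `w ≥ 2` blocks -/
theorem num_uni {m d : ℕ} (hd : 0 < d) (h : 2 * d < m + 1) : 2 * d + 1 ≤ m - wm m d + 1 := by
  have h0 := Nat.mod_lt (m + 1) hd
  have h1 := Nat.div_add_mod (m + 1) d
  set w := (m + 1) / d with hw
  have hw2 : 2 ≤ w := (Nat.le_div_iff_mul_le hd).2 (by omega)
  unfold wm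
  rw [← hw]
  split_ifs with h3 h4
  · have h5 : 3 ≤ w := by omega
    have h6 := Nat.mul_le_mul_left d h5
    omega
  · have h5 : w ≠ 2 := by
      intro e
      rw [e] at h1
      omega
    have h6 : 4 ≤ w := by omega
    have h7 := Nat.mul_le_mul_left d h6
    omega
  · have h7 := Nat.mul_le_mul_left d hw2
    omega

/-- the numbers: `w ≥ p` blocks -/
theorem num_uni_big {m d p : ℕ} (hd : 0 < d) (hp : Odd p) (h : p * d ≤ m + 1) : p ≤ m - wm m d + 1 := by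
  have h0 := Nat.mod_lt (m + 1) hd
  have h1 := Nat.div_add_mod (m + 1) d
  set w := (m + 1) / d with hw
  have hw2 : p ≤ w := (Nat.le_div_iff_mul_le hd).2 h
  have h8 : w ≤ d * w := Nat.le_mul_of_pos_left _ hd
  unfold wm
  rw [← hw]
  split_ifs with h3 h4
  · omega
  · have h5 : w ≠ p := by
      rintro rfl
      rw [Nat.odd_iff] at hp
      omega
    have h6 : p + 1 ≤ w := by omega
    have h7 := Nat.mul_le_mul_left d h6
    have h9 : d * (p + 1) = d * p + d := by ring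
    have h10 : p ≤ d * p := Nat.le_mul_of_pos_left _ hd
    omega
  · omega

/-- the arithmetic: `p² > 4 (p - 1)` -/
theorem sq_gt {p R : ℕ} (h11 : 11 ≤ p) (h : p ≤ R) : 4 * (p - 1) < R ^ 2 := by
  have h1 : p ^ 2 ≤ R ^ 2 := Nat.pow_le_pow_left h 2
  have h2 : 11 * p ≤ p ^ 2 := by
    rw [pow_two]
    exact Nat.mul_le_mul_right _ h11
  omega

section minus

variable {p : ℕ} [hp : Fact p.Prime] {M : Ideal AlgInt} {S : Type u} [Group S] [Finite S] {F : Type} [Field F]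
  [Finite F] {m : ℕ} {a b : F}

/-- the root group datum of `PΩ⁻` -/
theorem exists_pan {r : ℕ} [Fact r.Prime] [CharP F r] (hab : ∀ z₁ z₂ : F, z₁ ^ 2 + a * z₁ * z₂ + b * z₂ ^ 2 = 0 → z₁ = 0 ∧ z₂ = 0)
    (hm : 2 ≤ m) (e : S ≃* POmega F (quadFormMinus m F a b)) :
    ∃ (C : Fin m → Fin m → ℤ) (h : IsCartan (CoxeterMatrix.B m) C) (T : Subgroup S) (n : Fin m → S)
      (X : (Fin m → ℤ) → Subgroup S), Finite (CoxeterMatrix.B m).Group ∧
      RGD (CoxeterMatrix.B m).toCoxeterSystem h r T n X ∧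
      RGD.Sup X {x | IsRoot (CoxeterMatrix.B m).toCoxeterSystem h x} = ⊤ ∧
      (∀ i : Fin m, (i : ℕ) + 1 < m → Nat.card (X (sr i)) = Nat.card F) ∧
      ∀ i : Fin m, (i : ℕ) + 1 = m → Nat.card (X (sr i)) = Nat.card F ^ 2 := by
  obtain ⟨C, h, T, n, X, hW, R, hG1, -, -, hX⟩ := (Cfsg.Agent.H353.PanO.pan_po_minus hab hm (p := r)).of_equiv e.symm
  refine ⟨C, h, T, n, X, hW, R, hG1, fun i hi => ?_, fun i hi => ?_⟩
  · exact (hX i).trans (if_pos hi)
  · exact (hX i).trans (if_neg (by omega))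

/-- **The row `PΩ⁻_{2m+2}(q)`, unitary primes** -/
theorem row_uni {r : ℕ} [Fact r.Prime] [CharP F r] (hab : ∀ z₁ z₂ : F, z₁ ^ 2 + a * z₁ * z₂ + b * z₂ ^ 2 = 0 → z₁ = 0 ∧ z₂ = 0)
    (hm : 3 ≤ m) (e : S ≃* POmega F (quadFormMinus m F a b)) (h11 : 11 ≤ p) (hM : IsPModular p M)
    (hpS : p ∣ Nat.card S) (hout : AbOut p S) {d : ℕ} (hd : 0 < d) (ho : orderOf (Nat.card F : ZMod p) = 2 * d)
    (hblk : 2 * d < m + 1) (hbig : p * d ≤ m + 1 ∨ ∃ c, (2 * d) * c = p - 1 ∧ FormsE p S (2 * d) c) :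
    Row0 p M S := by
  obtain ⟨C, h, T, n, X, hW, R, hG1, hy, hz⟩ := exists_pan (r := r) hab (by omega) e
  have hG : GG (CoxeterMatrix.B m).toCoxeterSystem h T X = ⊤ := KFacts.RgdRigid.GG_eq_top hG1
  obtain ⟨h1, h2, h3⟩ := H965.XZ.wit_minus (m := m) ho hd (by omega) (by omega)
  refine driver_ext h11 R hG1 hm hM hpS hout h1.le (fun k hk => ?_) ?_
  · exact H965.XZ.dvd_index_B_all R hG hy hz h1 h2 h3 (j := k) hk (by simp)
  · rcases hbig with h4 | ⟨c, h4, h5⟩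
    · exact Or.inl (sq_gt h11 (num_uni_big hd (hp.out.odd_of_ne_two (by omega)) h4))
    · exact Or.inr ⟨2 * d, c, h4, num_uni hd hblk, h5⟩

end minus

end Cfsg.Agent.H914.XR.OM
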