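import Cfsg.Agent.H914.XR.OMinA
import Cfsg.Agent.H914.XR.OMinB
import Cfsg.Agent.H914.XR.LinMap
import Cfsg.Agent.H353.PanO

/-!
# S4791 + S4927, `PΩ⁻_{2m+2}(q)` : the root group datum of the Witt model (helper914)

`Mo hab hm` : the model; `To`, `Xo` : torus and root groups; `exists_R`, `hG1`, `hy`, `hz`.
-/

set_option autoImplicit false
set_option linter.unusedSectionVars false

namespace Cfsg.Agent.H914.XR.OM

open Cfsg
open CoxeterSystem Cfsg.Agent.ChevalleyStructure.CoxeterGeom Cfsg.Agent.Tits.Roots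
  Cfsg.Agent.Nodes.Comb Cfsg.Agent.Nodes.Reps Cfsg.Agent.Nodes.BNOf
  Cfsg.Agent.Nodes.RGDLib Cfsg.Agent.Nodes.TypeC
open Cfsg.Agent.Nodes Cfsg.Agent.Nodes.WittAll Cfsg.Agent.Nodes.WittU Cfsg.Agent.Nodes.WittInst
open Cfsg.Agent.Nodes.WittRGD (Tor)
open Cfsg.Agent.TitsThree Cfsg.Agent.TitsThree.Siegel Cfsg.Agent.TitsThree.SiegelGen
  Cfsg.Agent.TitsThree.WittFrame Cfsg.Agent.TitsThree.WBridge Cfsg.Agent.TitsThree.WittWeyl
  Cfsg.Agent.TitsThree.FrameCN
open QuadraticMap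
open Cfsg.Agent.LieClassical Cfsg.Agent.LieClassical.OrthCore Cfsg.Agent.LieClassical.OrthTrans
open Cfsg.Agent.LieClassical.OrthSimple Cfsg.Agent.LieClassical.OrthFinite
open Cfsg.Agent.LieClassical.OrthForms
open Cfsg.Agent.TitsThree.KSideO Cfsg.Agent.TitsThree.StdData
open Cfsg.Agent.H716.RGDAb Cfsg.Agent.H353.PanC Cfsg.Agent.H353.PanO

section model

variable {F : Type} [Field F] [Finite F] {m : ℕ} {a b : F}
  (hab : ∀ z₁ z₂ : F, z₁ ^ 2 + a * z₁ * z₂ + b * z₂ ^ 2 = 0 → z₁ = 0 ∧ z₂ = 0) (hm : 2 ≤ m)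

include hab hm in
theorem good : Good (minusForm m F a b) := by
  apply good_of_finite (nondeg_minusForm m F a b hab)
  rw [Module.finrank_fintype_fun_eq_card, Fintype.card_sum, Fintype.card_sum, Fintype.card_fin, Fintype.card_fin]
  omega

theorem exists_adm : ∃ p : (toFrame (wminus m F a b hab)).Adm, p.c ≠ 0 := by
  refine ⟨(embMinus m F a b hab).ngt ⟨(1, 0), -nf a b (1, 0), rfl⟩, ?_⟩
  change (1 : F)⁻¹ * (-nf a b (1, 0)) ≠ 0
  simp [nf]

/-- the model -/
noncomputable abbrev Mo : Model (toFrame (wminus m F a b hab)) (Cfsg.POmega F ⇑(minusForm m F a b)) :=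
  model (wminus m F a b hab) (good hab hm) (exists_adm hab)

/-- the Coxeter system -/
noncomputable abbrev co (m : ℕ) : CoxeterSystem (CoxeterMatrix.B m) (CoxeterMatrix.B m).Group :=
  (CoxeterMatrix.B m).toCoxeterSystem

/-- the torus -/
noncomputable abbrev To : Subgroup (Cfsg.POmega F ⇑(minusForm m F a b)) := WittModel.T (Mo hab hm)

/-- the root groups -/
noncomputable abbrev Xo : (Fin m → ℤ) → Subgroup (Cfsg.POmega F ⇑(minusForm m F a b)) := WittModel.X (Mo hab hm)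

include hab hm in
theorem exists_amb {r : ℕ} [Fact r.Prime] [CharP F r] :
    Nonempty (AmbT (toFrame (wminus m F a b hab)) r (E (minusForm m F a b))) := by
  have hG := good hab hm
  by_cases h2 : (2 : F) = 0
  · have h3 : CharP F 2 := CharTwo.of_one_ne_zero_of_two_eq_zero one_ne_zero h2
    have hp2 : r = 2 := CharP.eq F ‹CharP F r› h3
    subst hp2
    exact ⟨ambT_O _ fun g hg hg2 hb => fixp_minus a b hab h2 hm hG hg hg2 hb⟩
  · exact ⟨AmbT.of_amb (amb_O_of_two _ h2) r⟩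

theorem exists_R {r : ℕ} [Fact r.Prime] [CharP F r] :
    ∃ n : Fin m → Cfsg.POmega F ⇑(minusForm m F a b), RGD (co m) (TypeC.isCartan m) r (To hab hm) n (Xo hab hm) := by
  obtain ⟨hA⟩ := exists_amb (r := r) hab hm
  obtain ⟨p0, hp0⟩ := exists_adm (m := m) hab
  exact ⟨_, rgdC_model (Mo hab hm) hA hp0 (co m)⟩

theorem hG1 : RGD.Sup (Xo hab hm) {x | IsRoot (co m) (TypeC.isCartan m) x} = ⊤ :=
  WittModel.G1_eq_top (Mo hab hm) (by omega) (co m)

theorem hy (i : Fin m) (hi : (i : ℕ) + 1 < m) : Nat.card (Xo hab hm (sr i)) = Nat.card F :=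
  H353.PanC.card_X_sr (Mo hab hm) hi

theorem hz (i : Fin m) (hi : (i : ℕ) + 1 = m) : Nat.card (Xo hab hm (sr i)) = Nat.card F ^ 2 := by
  rw [H353.PanC.card_X_last (Mo hab hm) (by omega), card_adm, card_V0_minus]

end model

end Cfsg.Agent.H914.XR.OM
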