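import Cfsg.Agent.H914.XR.OMinC
import Cfsg.Agent.H324.AP.FrmB

/-!
# S4791 + S4927, `PΩ⁻_{2m+2}(q)` : the row from forms, dimensions and good nodes (helper914)

* `formsE_of_frmG`, `dSp_dvd` ;
* `blk_lt` : `2 d < m + 1`, `dSp = 2 d` (the number of blocks is at least two);
* `row_minus_of` : the row.
-/

set_option autoImplicit false
set_option linter.unusedSectionVars false

namespace Cfsg.Agent.H914.XR.OM

open Cfsg Subgroup
open Cfsg.Agent.H508.KB Cfsg.Agent.H668.XZ Cfsg.Agent.H674.XZ Cfsg.Agent.H443.XC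
open Cfsg.Agent.H508.XR (NC)
open CoxeterSystem Cfsg.Agent.ChevalleyStructure.CoxeterGeom Cfsg.Agent.Tits.Roots
  Cfsg.Agent.Nodes.Reps Cfsg.Agent.Nodes.BNOf Cfsg.Agent.Nodes.StabComb Cfsg.Agent.Nodes.Comb
  Cfsg.Agent.Nodes.Bruhat Cfsg.Agent.Nodes.OppDec Cfsg.Agent.Nodes.LeviDec
  Cfsg.Agent.H796.BR Cfsg.Agent.H967.XZ Cfsg.Agent.Nodes
open Cfsg.Agent.LieClassical.OrthCore Cfsg.Agent.LieClassical.OrthForms Cfsg.Agent.H324.AP

universe u

theorem formsE_of_frmG {p : ℕ} [Fact p.Prime] {S : Type u} [Group S] [Finite S] {e c : ℕ} (h : FrmG p S e)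
    (hec : e * c = p - 1) : FormsE p S e c := by
  rcases Nat.lt_or_ge c 2 with hc | hc
  · exact Or.inl (by omega)
  · obtain ⟨P⟩ : Nonempty (Sylow p S) := inferInstance
    obtain ⟨h1, h2⟩ := h P
    obtain ⟨f, h3, h4, h5⟩ := h2 c hec hc
    exact Or.inr ⟨P, fun x hx y hy => h1 x hx y hy, f, h3, h4, h5⟩

section num

variable {p : ℕ} [hp : Fact p.Prime]

/-- `dSp = 2 d` -/
theorem exists_half {q : ℕ} (hq : (q : ZMod p) ≠ 0) (h2 : p ≠ 2) :
    ∃ d c, 0 < d ∧ dSp p q = 2 * d ∧ (2 * d) * c = p - 1 ∧ (orderOf (q : ZMod p) = 2 * d ∨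
      (orderOf (q : ZMod p) = d ∧ Odd d)) := by
  have h0 : orderOf (q : ZMod p) ∣ p - 1 := orderOf_dvd_of_pow_eq_one (ZMod.pow_card_sub_one_eq_one hq)
  have h1 : p - 1 ≠ 0 := by
    have := hp.out.two_le
    omega
  have h3 : 0 < orderOf (q : ZMod p) := Nat.pos_of_dvd_of_pos h0 (Nat.pos_of_ne_zero h1)
  unfold dSp
  by_cases he : Even (orderOf (q : ZMod p))
  · rw [if_pos he]
    obtain ⟨d, hd⟩ := he
    obtain ⟨c, hc⟩ := h0
    refine ⟨d, c, by omega, by omega, ?_, Or.inl (by omega)⟩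
    rw [hc]
    congr 1
    omega
  · rw [if_neg he]
    rw [Nat.not_even_iff_odd] at he
    have h4 : 2 ∣ p - 1 := by
      have := hp.out.odd_of_ne_two h2
      obtain ⟨k, hk⟩ := this
      exact ⟨k, by omega⟩
    have h5 : 2 * orderOf (q : ZMod p) ∣ p - 1 :=
      Nat.Coprime.mul_dvd_of_dvd_of_dvd (Nat.coprime_two_left.2 he) h4 h0
    obtain ⟨c, hc⟩ := h5
    exact ⟨_, c, h3, rfl, hc.symm, Or.inr ⟨rfl, he⟩⟩

end num

section row

variable {p : ℕ} [hp : Fact p.Prime] {M : Ideal AlgInt} {S : Type u} [Group S] [Finite S] {F : Type} [Field F]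
  [Finite F] {m : ℕ} {a b : F}

/-- the number of blocks is at least two -/
theorem blk_lt (hab : ∀ z₁ z₂ : F, z₁ ^ 2 + a * z₁ * z₂ + b * z₂ ^ 2 = 0 → z₁ = 0 ∧ z₂ = 0) (hm : 3 ≤ m) (h2 : p ≠ 2)
    {d : ℕ} (hd : 0 < d) (ho : orderOf (Nat.card F : ZMod p) = 2 * d ∨ orderOf (Nat.card F : ZMod p) = d)
    (hblk : ∃ T : Subgroup (((Fin m ⊕ Fin m) ⊕ Fin 2 → F) ≃ₗ[F] ((Fin m ⊕ Fin m) ⊕ Fin 2 → F)),
      T ≤ O (minusForm m F a b) ∧ IsPGroup p T ∧ Module.finrank F (fixP T) + 2 * (2 * d) ≤ 2 * m + 2) : 2 * d < m + 1 := by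
  obtain ⟨T, hT, hTp, h1⟩ := hblk
  rcases Nat.lt_or_ge (2 * d) (m + 1) with h3 | h3
  · exact h3
  exfalso
  have h4 : m + 1 = 2 * d := by omega
  set x := (Nat.card F : ZMod p) with hx
  have hpow : x ^ (2 * d) = 1 := by
    rcases ho with ho | ho
    · rw [← ho, pow_orderOf_eq_one]
    · rw [mul_comm, pow_mul, ← ho, pow_orderOf_eq_one, one_pow]
  have hx1 : x ≠ 1 := by
    intro h
    rw [h, orderOf_one] at ho
    omega
  have h11 : (1 : ZMod p) ≠ -1 := by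
    intro h
    have h5 : ((2 : ℕ) : ZMod p) = 0 := by
      push_cast
      linear_combination h
    rw [ZMod.natCast_eq_zero_iff] at h5
    exact h2 ((Nat.prime_dvd_prime_iff_eq hp.out Nat.prime_two).1 h5)
  obtain ⟨v, hv, hv0⟩ := exists_fix (p := p) hab (by
    intro h
    apply hx1
    rw [← h4, pow_succ, h, one_mul] at hpow
    exact hpow) (by
    rw [h4, hpow]
    exact h11) hT hTp
  have h5 : 0 < Module.finrank F (fixP T) := by
    rw [Module.finrank_pos_iff]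
    exact ⟨⟨⟨v, hv⟩, 0, fun h => hv0 (congrArg Subtype.val h)⟩⟩
  omega

/-- **The row `PΩ⁻_{2m+2}(q)`** -/
theorem row_minus_of {r : ℕ} [Fact r.Prime] [CharP F r] (hrp : r ≠ p)
    (hab : ∀ z₁ z₂ : F, z₁ ^ 2 + a * z₁ * z₂ + b * z₂ ^ 2 = 0 → z₁ = 0 ∧ z₂ = 0) (hm : 3 ≤ m)
    (e : S ≃* POmega F (quadFormMinus m F a b)) (h11 : 11 ≤ p) (hM : IsPModular p M) (hP : NC p S) (hout : AbOut p S)
    (hfrm : AbSyl p S → FrmG p S (dSp p (Nat.card F)))
    (hdim : 2 * m + 2 < p * dSp p (Nat.card F) → AbSyl p S)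
    (hblk : ∃ T : Subgroup (((Fin m ⊕ Fin m) ⊕ Fin 2 → F) ≃ₗ[F] ((Fin m ⊕ Fin m) ⊕ Fin 2 → F)),
      T ≤ O (minusForm m F a b) ∧ IsPGroup p T ∧
        Module.finrank F (fixP T) + 2 * dSp p (Nat.card F) ≤ 2 * m + 2)
    (hgd : ∀ (d w v : ℕ), orderOf (Nat.card F : ZMod p) = d → Odd d → m = v + d * w → v < d → 2 ≤ w →
      ∃ (T : Subgroup S) (n : Fin m → S) (X : (Fin m → ℤ) → Subgroup S), RGD (co m) (TypeC.isCartan m) r T n X ∧
        RGD.Sup X {x | IsRoot (co m) (TypeC.isCartan m) x} = ⊤ ∧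
        ∀ a, v ≤ a → a < m → tt p w ((a - v) / d) ≠ 0 → GdC p M (co m) (TypeC.isCartan m) T X a) :
    Row0 p M S := by
  have hp2 : p ≠ 2 := by omega
  have hpS : p ∣ Nat.card S := by
    by_contra hcon
    obtain ⟨P⟩ : Nonempty (Sylow p S) := inferInstance
    apply hP P
    have h1 : Nat.card (P : Subgroup S) = 1 := by
      obtain ⟨k, hk⟩ := (IsPGroup.iff_card (p := p)).1 P.isPGroup'
      rcases Nat.eq_zero_or_pos k with rfl | hk0
      · rw [hk, pow_zero]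
      · exfalso
        apply hcon
        exact (dvd_pow_self p hk0.ne').trans (hk ▸ Subgroup.card_subgroup_dvd_card (P : Subgroup S))
    have : Subsingleton (P : Subgroup S) := (Nat.card_eq_one_iff_unique.1 h1).1
    infer_instance
  have hq : (Nat.card F : ZMod p) ≠ 0 := by
    let _ : Fintype F := Fintype.ofFinite F
    obtain ⟨k, -, hk⟩ := FiniteField.card F r
    rw [Nat.card_eq_fintype_card, hk, Ne, ZMod.natCast_eq_zero_iff]
    intro h
    exact hrp ((Nat.prime_dvd_prime_iff_eq hp.out (Fact.out : r.Prime)).1 (hp.out.dvd_of_dvd_pow h)).symm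
  have hpF : (p : F) ≠ 0 := by
    intro h
    have h1 : r ∣ p := (CharP.cast_eq_zero_iff F r p).1 h
    exact hrp ((Nat.prime_dvd_prime_iff_eq (Fact.out : r.Prime) hp.out).1 h1)
  obtain ⟨d, c, hd, hdS, hc, ho⟩ := exists_half (p := p) hq hp2
  rw [hdS] at hfrm hdim hblk
  have hlt : 2 * d < m + 1 := blk_lt hab hm hp2 hd (by
    rcases ho with h | h
    · exact Or.inl h
    · exact Or.inr h.1) hblk
  have hbig : p * d ≤ m + 1 ∨ ∃ c, (2 * d) * c = p - 1 ∧ FormsE p S (2 * d) c := by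
    rcases Nat.lt_or_ge m (p * d - 1) with h1 | h1
    · right
      refine ⟨c, hc, formsE_of_frmG (hfrm (hdim ?_)) hc⟩
      have h2 : p * (2 * d) = 2 * (p * d) := by ring
      omega
    · left
      omega
  rcases ho with ho | ⟨ho, hodd⟩
  · exact row_uni (r := r) hab hm e h11 hM hpS hout hd ho hlt hbig
  · have h1 := Nat.div_add_mod m d
    have h2 : 2 ≤ m / d := (Nat.le_div_iff_mul_le hd).2 (by omega)
    obtain ⟨T, n, X, R, hG1, hg⟩ := hgd d (m / d) (m % d) ho hodd (by omega) (Nat.mod_lt _ hd) h2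
    have : Finite (CoxeterMatrix.B m).Group := TypeC.finite_W (co m)
    refine driver_lin h11 R hG1 hm hM hpS hout (cycOut_lin hpF hp2 hm hab (by rw [ho]; exact hodd) e) hd
      (v := m % d) (w := m / d) (by omega) h2 hg ?_
    rcases hbig with h3 | h3
    · left
      have h4 : p * d < (m / d + 2) * d := by
        have h5 := Nat.mod_lt m hd
        have h6 : (m / d + 2) * d = d * (m / d) + 2 * d := by ring
        omega
      have h7 := Nat.lt_of_mul_lt_mul_right h4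
      omega
    · exact Or.inr h3

end row

end Cfsg.Agent.H914.XR.OM
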