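import Cfsg.Agent.H914.XR.OMinD
import Cfsg.Agent.H914.XR.OrthS
import Cfsg.Agent.H813.SpC.AbOmega
import Cfsg.Agent.H719.XZ.Trans
import Cfsg.Agent.H236.XZ.GdLin

/-!
# S4791 + S4927, `PΩ⁻` : the row from `LinData` on the Witt model at linear primes (helper914)

* `exists_data` : `LinData` on a group `Y` and `Y ≃* S` : the good nodes of `S`;
* `row_minus_of_linData` : the row of `PΩ⁻_{2m+2}(q)` from `LinData` on the model.
-/

set_option autoImplicit false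
set_option linter.unusedSectionVars false

namespace Cfsg.Agent.H914.XR.OM

open Cfsg Subgroup
open Cfsg.Agent.H668.XZ Cfsg.Agent.H674.XZ Cfsg.Agent.H443.XC
open Cfsg.Agent.H508.XR (NC)
open Cfsg.Agent.H508.KB (AbOut)
open CoxeterSystem Cfsg.Agent.ChevalleyStructure.CoxeterGeom
open Cfsg.Agent.Tits.Roots (IsRoot)
open Cfsg.Agent.Nodes.Reps Cfsg.Agent.Nodes.BNOf Cfsg.Agent.Nodes.StabComb Cfsg.Agent.Nodes.Comb
  Cfsg.Agent.Nodes.Bruhat Cfsg.Agent.Nodes.OppDec Cfsg.Agent.Nodes.LeviDec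
  Cfsg.Agent.H796.BR Cfsg.Agent.H967.XZ Cfsg.Agent.Nodes
open Cfsg.Agent.H796.XZ (LinData JA JT)
open Cfsg.Agent.LieClassical.OrthCore Cfsg.Agent.LieClassical.OrthForms Cfsg.Agent.H324.AP

universe u

variable {p : ℕ} [hp : Fact p.Prime] {M : Ideal AlgInt} {S : Type u} [Group S] [Finite S]

/-- transport of the good nodes -/
theorem exists_data {r : ℕ} [hr : Fact r.Prime] {m : ℕ} {Y : Type} [Group Y] [Finite Y] {T : Subgroup Y} {n : Fin m → Y}
    {X : (Fin m → ℤ) → Subgroup Y} (R : RGD (co m) (TypeC.isCartan m) r T n X)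
    (hG1 : RGD.Sup X {x | IsRoot (co m) (TypeC.isCartan m) x} = ⊤) (hpr : p ≠ r) (hM : IsPModular p M) {d w v : ℕ}
    (hd : 0 < d) (hmv : v + d * w = m) {P : Sylow p Y} {P₀ : Subgroup Y}
    (D : LinData (co m) (TypeC.isCartan m) T X p (JA m d w) (JT m d w) P P₀) (f : Y ≃* S) :
    ∃ (T' : Subgroup S) (n' : Fin m → S) (X' : (Fin m → ℤ) → Subgroup S),
      RGD (co m) (TypeC.isCartan m) r T' n' X' ∧ RGD.Sup X' {x | IsRoot (co m) (TypeC.isCartan m) x} = ⊤ ∧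
      ∀ a, v ≤ a → a < m → tt p w ((a - v) / d) ≠ 0 → GdC p M (co m) (TypeC.isCartan m) T' X' a := by
  have : Finite (CoxeterMatrix.B m).Group := TypeC.finite_W (co m)
  have hG : GG (co m) (TypeC.isCartan m) T X = ⊤ := KFacts.RgdRigid.GG_eq_top hG1
  exact ⟨_, _, _, H719.XZ.rgd_mapE f R, H719.XZ.sup_mapE f hG1, fun a h1 h2 h3 =>
    H719.XZ.gdC_map f (H236.XZ.gdC_of_linData R hG hpr hM hd hmv D h1 h2.le h3)⟩

/-- **The row `PΩ⁻_{2m+2}(q)` from `LinData` on the model** -/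
theorem row_minus_of_linData {r : ℕ} [hr : Fact r.Prime] {F : Type} [Field F] [Fintype F] {m : ℕ} {a b : F} [CharP F r]
    (hrp : r ≠ p) (hab : ∀ z₁ z₂ : F, z₁ ^ 2 + a * z₁ * z₂ + b * z₂ ^ 2 = 0 → z₁ = 0 ∧ z₂ = 0) (hm : 3 ≤ m) (hm2 : 2 ≤ m)
    (e : S ≃* POmega F (quadFormMinus m F a b)) (h11 : 11 ≤ p) (hM : IsPModular p M) (hP : NC p S) (hout : AbOut p S)
    (hlin : ∀ (d w v : ℕ), orderOf (Nat.card F : ZMod p) = d → Odd d → v + d * w = m → v < d → 2 ≤ w →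
      ∃ (P : Sylow p (Cfsg.POmega F ⇑(minusForm m F a b))) (P₀ : Subgroup (Cfsg.POmega F ⇑(minusForm m F a b))),
        LinData (co m) (TypeC.isCartan m) (To hab hm2) (Xo hab hm2) p (JA m d w) (JT m d w) P P₀) :
    Row0 p M S := by
  have hp2 : p ≠ 2 := by omega
  have hG : Cfsg.Agent.LieClassical.OrthTrans.Good (minusForm m F a b) := good hab hm2
  have hfr : Module.finrank F ((Fin m ⊕ Fin m) ⊕ Fin 2 → F) = 2 * m + 2 := by
    rw [Module.finrank_fintype_fun_eq_card]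
    simp
    ring
  have e1 : S ≃* Cfsg.POmega F ⇑(minusForm m F a b) := by
    rw [coe_minusForm]
    exact e
  have hfinY : Finite (Cfsg.POmega F ⇑(minusForm m F a b)) := Finite.of_equiv _ e1.toEquiv
  have e0 : S ≃* (↥(E (minusForm m F a b)) ⧸ center ↥(E (minusForm m F a b))) :=
    e1.trans (Cfsg.Agent.AutOrth.Main.pe hG)
  refine row_minus_of hrp hab hm e h11 hM hP hout (fun hA => ?_) (fun hlt => ?_) ?_ ?_
  · have h1 := frmB_omegaMinus hrp hp2 hA hP (m := m) (by omega) hab e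
    rw [← Nat.card_eq_fintype_card] at h1
    refine FrmB.frmG hp2 ?_ h1
    refine dSp_pos ?_
    obtain ⟨k, -, hk⟩ := FiniteField.card F r
    rw [Nat.card_eq_fintype_card, hk, Ne, ZMod.natCast_eq_zero_iff]
    intro h
    exact hrp ((Nat.prime_dvd_prime_iff_eq hp.out hr.out).1 (hp.out.dvd_of_dvd_pow h)).symm
  · exact OrthS.ab_of_lt hrp hp2 hG.nondeg e0 (by rw [hfr]; exact hlt)
  · obtain ⟨T, h1, h2, h3⟩ := OrthS.blk_of_nc hrp hp2 hG.nondeg e0 hP
    rw [hfr] at h3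
    exact ⟨T, h1, h2, h3⟩
  · intro d w v ho hodd hmv hv hw
    obtain ⟨n, R⟩ := exists_R (r := r) hab hm2
    obtain ⟨P, P₀, D⟩ := hlin d w v ho hodd hmv.symm hv hw
    exact exists_data R (hG1 hab hm2) hrp.symm hM (by omega) hmv.symm D e1.symm

end Cfsg.Agent.H914.XR.OM
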