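import Cfsg.Agent.H674.XZ.Base
import Cfsg.Agent.H628.PPrimeKer
import Cfsg.Agent.H145.BR.Count

/-!
# S4791 + S4927, R0d: members of `X0(G)` over members of `X0(H)`, `H` of index prime to `p` (helper914)

* `sum_mem_of_reg` : the degree of the part of a generalized character in the principal block, modulo `M`;
* `exists_over_H` : the stub R0d.
-/

set_option autoImplicit false
set_option maxHeartbeats 400000
set_option linter.unusedSectionVars false

namespace Cfsg.Agent.H914.XR

open Cfsg Subgroup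
open Cfsg.Agent.H674.XZ
open Cfsg.Agent.Blocks.Blau Cfsg.Agent.Blocks.Local Cfsg.Agent.Characters Cfsg.Agent.Characters.Core
open scoped ComplexConjugate

universe u

variable {p : ℕ} [hp : Fact p.Prime] {M : Ideal AlgInt} {G : Type u} [Group G] [Finite G]

/-- the part of a generalized character in the principal block -/
theorem sum_mem_of_reg (hM : IsPModular p M) [Fintype G] [Fintype (IrrCharacter G)]
    [DecidablePred (· ∈ principalBlock M G)] (Φ : G → ℂ)
    (k : IrrCharacter G → ℤ) (hΦ : ∀ g, Φ g = ∑ χ : IrrCharacter G, (k χ : ℂ) * (χ : G → ℂ) g) :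
    MemLocalIdeal M ((((∑ χ : IrrCharacter G, if χ ∈ principalBlock M G then k χ * (charDegree (χ : G → ℂ) : ℤ) else 0) *
      (Nat.card {x : G // ¬ p ∣ orderOf x} : ℤ) : ℤ) : ℂ) - ∑ g : G, regPart p Φ g) := by
  classical
  have hMp : M.IsPrime := isPrime_of_isPModular hM
  have h1 : ∑ g : G, regPart p Φ g = ∑ χ : IrrCharacter G, (k χ : ℂ) * ∑ g : G, regPart p (χ : G → ℂ) g := by
    have h2 : ∀ g : G, regPart p Φ g = ∑ χ : IrrCharacter G, (k χ : ℂ) * regPart p (χ : G → ℂ) g := by
      intro g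
      by_cases hg : p ∣ orderOf g
      · rw [regPart_of_dvd hg, Finset.sum_eq_zero]
        intro i _
        rw [regPart_of_dvd hg, mul_zero]
      · rw [regPart_of_not_dvd hg, hΦ]
        refine Finset.sum_congr rfl fun i _ => ?_
        rw [regPart_of_not_dvd hg]
    rw [Finset.sum_congr rfl fun g _ => h2 g, Finset.sum_comm]
    exact Finset.sum_congr rfl fun χ _ => by rw [Finset.mul_sum]
  have key : ∀ χ : IrrCharacter G, MemLocalIdeal M
      ((((if χ ∈ principalBlock M G then k χ * (charDegree (χ : G → ℂ) : ℤ) else 0) *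
        (Nat.card {x : G // ¬ p ∣ orderOf x} : ℤ) : ℤ) : ℂ) - (k χ : ℂ) * ∑ g : G, regPart p (χ : G → ℂ) g) := by
    intro χ
    by_cases hχ : χ ∈ principalBlock M G
    · rw [if_pos hχ]
      have h2 := pair_div_sub_pair_div hM (H893.Sd.one G).2 χ.2 (Core.isIrr_isCharacter (H893.Sd.one G).2) hχ
      have h3 : pair p ((H893.Sd.one G : IrrCharacter G) : G → ℂ) ((H893.Sd.one G : IrrCharacter G) : G → ℂ) =
        (Nat.card {x : G // ¬ p ∣ orderOf x} : ℂ) := H893.Sd.pair_one_one p
      have h4 : ((H893.Sd.one G : IrrCharacter G) : G → ℂ) 1 = 1 := rfl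
      have h5 : pair p (χ : G → ℂ) ((H893.Sd.one G : IrrCharacter G) : G → ℂ) = ∑ g : G, regPart p (χ : G → ℂ) g :=
        H893.Sd.pair_one p _
      rw [h3, h4, h5, div_one] at h2
      have h6 : (χ : G → ℂ) 1 ≠ 0 := apply_one_ne_zero χ
      have h7 := memLocalIdeal_mul_left (memLocalRing_intCast (M := M) (k χ * (charDegree (χ : G → ℂ) : ℤ))) h2
      have h8 : ((k χ * (charDegree (χ : G → ℂ) : ℤ) : ℤ) : ℂ) * ((Nat.card {x : G // ¬ p ∣ orderOf x} : ℂ) -
          (∑ g : G, regPart p (χ : G → ℂ) g) / (χ : G → ℂ) 1) =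
          (((k χ * (charDegree (χ : G → ℂ) : ℤ)) * (Nat.card {x : G // ¬ p ∣ orderOf x} : ℤ) : ℤ) : ℂ) -
            (k χ : ℂ) * ∑ g : G, regPart p (χ : G → ℂ) g := by
        rw [Cfsg.Agent.H145.BR.charDegree_cast'] at h6 ⊢
        push_cast
        field_simp
      rw [h8] at h7
      exact h7
    · rw [if_neg hχ, zero_mul, Int.cast_zero, zero_sub]
      have h2 : ∑ g : G, regPart p (χ : G → ℂ) g = 0 := by
        by_contra h3
        exact hχ ((H893.Sd.mem_iff hM χ).2 h3)
      rw [h2, mul_zero, neg_zero]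
      exact memLocalIdeal_zero
  have h2 := memLocalIdeal_sum (M := M) (s := Finset.univ) fun χ _ => key χ
  rw [Finset.sum_sub_distrib, ← h1, ← Int.cast_sum, ← Finset.sum_mul] at h2
  exact h2

/-- the sum of the values of a member of the principal block at the regular elements -/
theorem sum_reg_mem (hM : IsPModular p M) [Fintype G] {η : IrrCharacter G} (hη : η ∈ principalBlock M G) :
    MemLocalIdeal M ((charDegree (η : G → ℂ) * Nat.card {x : G // ¬ p ∣ orderOf x} : ℂ) -
      ∑ g : G, regPart p (η : G → ℂ) g) := by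
  have hMp : M.IsPrime := isPrime_of_isPModular hM
  have h2 := pair_div_sub_pair_div hM (H893.Sd.one G).2 η.2 (Core.isIrr_isCharacter (H893.Sd.one G).2) hη
  have h3 : pair p ((H893.Sd.one G : IrrCharacter G) : G → ℂ) ((H893.Sd.one G : IrrCharacter G) : G → ℂ) =
    (Nat.card {x : G // ¬ p ∣ orderOf x} : ℂ) := H893.Sd.pair_one_one p
  have h4 : ((H893.Sd.one G : IrrCharacter G) : G → ℂ) 1 = 1 := rfl
  have h5 : pair p (η : G → ℂ) ((H893.Sd.one G : IrrCharacter G) : G → ℂ) = ∑ g : G, regPart p (η : G → ℂ) g :=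
    H893.Sd.pair_one p _
  rw [h3, h4, h5, div_one] at h2
  have h6 : (η : G → ℂ) 1 ≠ 0 := apply_one_ne_zero η
  have h7 := memLocalIdeal_mul_left (memLocalRing_intCast (M := M) (charDegree (η : G → ℂ) : ℤ)) h2
  have h8 : (((charDegree (η : G → ℂ) : ℤ) : ℤ) : ℂ) * ((Nat.card {x : G // ¬ p ∣ orderOf x} : ℂ) -
      (∑ g : G, regPart p (η : G → ℂ) g) / (η : G → ℂ) 1) =
      (charDegree (η : G → ℂ) * Nat.card {x : G // ¬ p ∣ orderOf x} : ℂ) -
        ∑ g : G, regPart p (η : G → ℂ) g := by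
    rw [Cfsg.Agent.H145.BR.charDegree_cast'] at h6 ⊢
    push_cast
    field_simp
  rwa [h8] at h7

/-- the regular elements and induction -/
theorem sum_reg_indFun [Fintype G] (H : Subgroup G) [Fintype H] (φ : H → ℂ) :
    ∑ g : G, regPart p (indFun H φ) g = H.index * ∑ h : H, regPart p φ h := by
  set r : G → ℂ := regPart p (fun _ => 1) with hr
  have hrc : IsClassFunction G r := regPart_isClassFunction fun _ _ => rfl
  have hconj : ∀ g, conj (r g) = r g := by
    intro g
    rw [hr]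
    by_cases hg : p ∣ orderOf g
    · rw [regPart_of_dvd hg, map_zero]
    · rw [regPart_of_not_dvd hg, map_one]
  have hmul : ∀ g, regPart p (indFun H φ) g = indFun H φ g * conj (r g) := by
    intro g
    rw [hconj, hr]
    by_cases hg : p ∣ orderOf g
    · rw [regPart_of_dvd hg, regPart_of_dvd hg, mul_zero]
    · rw [regPart_of_not_dvd hg, regPart_of_not_dvd hg, mul_one]
  have hmul' : ∀ h : H, regPart p φ h = φ h * conj (r h) := by
    intro h
    rw [hconj, hr]
    have e : orderOf (h : G) = orderOf h := Subgroup.orderOf_coe h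
    by_cases hg : p ∣ orderOf h
    · rw [regPart_of_dvd hg, regPart_of_dvd (by rwa [e]), mul_zero]
    · rw [regPart_of_not_dvd hg, regPart_of_not_dvd (by rwa [e]), mul_one]
  have h1 := Brauer.classInner_indFun H inferInstance φ r hrc
  rw [classInner_def, classInner_def] at h1
  rw [Finset.sum_congr rfl fun g _ => hmul g, Finset.sum_congr rfl fun h _ => hmul' h]
  have hG : (Nat.card G : ℂ) ≠ 0 := Nat.cast_ne_zero.2 Nat.card_pos.ne'
  have hH : (Nat.card H : ℂ) ≠ 0 := Nat.cast_ne_zero.2 Nat.card_pos.ne'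
  have hi : (H.index : ℂ) * Nat.card H = Nat.card G := by exact_mod_cast H.index_mul_card
  have h2 : (Nat.card G : ℂ) * ((Nat.card G : ℂ)⁻¹ * ∑ g : G, indFun H φ g * conj (r g)) =
      (Nat.card G : ℂ) * ((Nat.card H : ℂ)⁻¹ * ∑ h : H, φ h * conj (r h)) := by rw [h1]
  rw [mul_inv_cancel_left₀ hG] at h2
  rw [h2, ← hi]
  field_simp

/-- the induced function is almost `p`-rational -/
theorem alm_indFun [Fintype G] {H : Subgroup G} {η : H → ℂ} (h : Alm p η) : Alm p (indFun H η) := by
  obtain ⟨n, hn0, hn, hv⟩ := h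
  refine ⟨n, hn0, hn, fun g => ?_⟩
  rw [Brauer.indFun_apply]
  refine mul_mem (inv_mem (natCast_mem _ _)) (sum_mem fun x _ => ?_)
  by_cases hx : x⁻¹ * g * x ∈ H
  · rw [extendByZero_of_mem H _ hx]
    exact hv _
  · rw [extendByZero_of_notMem H _ hx]
    exact zero_mem _

/-- `F` of an induced character -/
theorem exists_fv (hM : IsPModular p M) [Fintype G] (H : Subgroup G) (hH : ¬ p ∣ H.index)
    (η : IrrCharacter H) (hη : Mem0 p M η) : ∃ c : ℤ, FV p M (indFun H (η : H → ℂ)) c ∧ ¬ (p : ℤ) ∣ c := by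
  classical
  have hMp : M.IsPrime := isPrime_of_isPModular hM
  have hfin : Finite (IrrCharacter G) := finite_irr
  let : Fintype (IrrCharacter G) := Fintype.ofFinite _
  have := Fintype.ofFinite H
  have hch : IsCharacter G (indFun H (η : H → ℂ)) := Brauer.isCharacter_indFun H (isIrr_isCharacter η.2)
  obtain ⟨m, hm⟩ := exists_nat_comb hch
  refine ⟨bsum M (fun χ => (m χ : ℤ)), ⟨?_, fun χ => (m χ : ℤ), fun χ => ?_, Int.ModEq.refl _⟩, ?_⟩
  · exact (alm_iff_fun hch).1 (alm_indFun hη.2.2)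
  · rw [ip_eq, hm, classInner_sum_nsmul_irr, Int.cast_natCast]
  · intro hdvd
    have h1 := sum_mem_of_reg hM (indFun H (η : H → ℂ)) (fun χ => (m χ : ℤ)) (fun g => by
      conv_lhs => rw [hm]
      rw [Finset.sum_apply]
      refine Finset.sum_congr rfl fun χ _ => ?_
      rw [Pi.smul_apply, nsmul_eq_mul, Int.cast_natCast])
    have h2 : bsum M (fun χ => (m χ : ℤ)) = ∑ χ : IrrCharacter G, if χ ∈ principalBlock M G then
        (m χ : ℤ) * (charDegree (χ : G → ℂ) : ℤ) else 0 := rfl
    rw [← h2, sum_reg_indFun] at h1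
    have h3 := sum_reg_mem hM hη.1
    have h4 := memLocalIdeal_mul_left (memLocalRing_intCast (M := M) (H.index : ℤ)) h3
    have h5 := memLocalIdeal_sub h1 h4
    have h6 : (((bsum M (fun χ => (m χ : ℤ)) * (Nat.card {x : G // ¬ p ∣ orderOf x} : ℤ) : ℤ) : ℂ) -
        H.index * ∑ h : H, regPart p (η : H → ℂ) h) - ((H.index : ℤ) : ℂ) *
        ((charDegree (η : H → ℂ) * Nat.card {x : H // ¬ p ∣ orderOf x} : ℂ) - ∑ h : H, regPart p (η : H → ℂ) h) =
        ((bsum M (fun χ => (m χ : ℤ)) * (Nat.card {x : G // ¬ p ∣ orderOf x} : ℤ) -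
          (H.index * (charDegree (η : H → ℂ) * Nat.card {x : H // ¬ p ∣ orderOf x}) : ℕ) : ℤ) : ℂ) := by
      push_cast
      ring
    rw [h6, memLocalIdeal_intCast_iff hM] at h5
    have h7 : (p : ℤ) ∣ ((H.index * (charDegree (η : H → ℂ) * Nat.card {x : H // ¬ p ∣ orderOf x}) : ℕ) : ℤ) := by
      have h8 := dvd_sub (hdvd.mul_right (Nat.card {x : G // ¬ p ∣ orderOf x} : ℤ)) h5
      rwa [sub_sub_cancel] at h8
    rw [Int.natCast_dvd_natCast] at h7
    rcases hp.out.dvd_mul.1 h7 with h8 | h8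
    · exact hH h8
    · rcases hp.out.dvd_mul.1 h8 with h9 | h9
      · exact hη.2.1 h9
      · exact Cfsg.Agent.Blocks.RegularCount.not_dvd_card_regular h9

/-- **R0d** -/
theorem exists_over_H (hM : IsPModular p M) {G : Type u} [Group G] [Finite G] (H : Subgroup G) (hH : ¬ p ∣ H.index)
    (η : IrrCharacter H) (hη : Mem0 p M η) : ∃ χ : IrrCharacter G, Mem0 p M χ ∧ ∃ m : ℕ, ¬ p ∣ m ∧
      ∑ᶠ h : H, (χ : G → ℂ) h * conj ((η : H → ℂ) h) = m * Nat.card H := by
  classical
  have := Fintype.ofFinite G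
  have := Fintype.ofFinite H
  obtain ⟨c, h1, h2⟩ := exists_fv hM H hH η hη
  obtain ⟨χ, hχ, n, h3, h4⟩ := h1.exists_mem0' h2
  have hres : IsCharacter H (fun h : H => (χ : G → ℂ) h) :=
    Brauer.isCharacter_restrict (isIrr_isCharacter χ.2) H
  obtain ⟨m, hm⟩ := classInner_isNat hres (isIrr_isCharacter η.2)
  refine ⟨χ, hχ, m, ?_, ?_⟩
  · intro h5
    apply h4
    have h6 : (n : ℂ) = (m : ℂ) := by
      rw [← h3, ip_eq, Brauer.classInner_indFun H inferInstance _ _ (isIrr_isClassFunction χ.2)]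
      have h7 := congrArg conj hm
      rw [map_natCast] at h7
      rw [← h7, classInner_def, classInner_def, map_mul, map_inv₀, map_natCast, map_sum]
      congr 1
      refine Finset.sum_congr rfl fun h _ => ?_
      rw [map_mul, Complex.conj_conj, mul_comm]
    have h8 : n = (m : ℤ) := by exact_mod_cast h6
    rw [h8, Int.natCast_dvd_natCast]
    exact h5
  · rw [finsum_eq_sum_of_fintype, ← hm, classInner_def]
    have hc : (Nat.card H : ℂ) ≠ 0 := Nat.cast_ne_zero.2 Nat.card_pos.ne'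
    field_simp

end Cfsg.Agent.H914.XR
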