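import Cfsg.Agent.H16.XZ.Irr
import Cfsg.Agent.Solvable.UniqueOrderP

/-!
# S4791 + S4927: two blocks (helper914)

`T` a noncyclic `p`-group of isometries of a nondegenerate form (symplectic, orthogonal) over the finite field `F`, `p` odd,
`E = ord_p |F|` if this is even, `2 ord_p |F|` otherwise: `dim C_V(T) + 2 E ≤ dim V` (`two_blocks`).
-/

set_option autoImplicit false

namespace Cfsg.Agent.H914.XR.TwoB

open Submodule Module Cfsg.Agent.H324.AP

universe u v

variable {F : Type u} {V : Type v} [Field F] [AddCommGroup V] [Module F V]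

theorem mem_fix_zpowers {a : V ≃ₗ[F] V} {v : V} : v ∈ fixP (Subgroup.zpowers a) ↔ a v = v := by
  rw [mem_fixP]
  constructor
  · exact fun h => h a (Subgroup.mem_zpowers a)
  · intro h g hg
    obtain ⟨k, rfl⟩ := Subgroup.mem_zpowers_iff.1 hg
    have h1 : a ∈ MulAction.stabilizer (V ≃ₗ[F] V) v := h
    exact zpow_mem h1 k

section dim

variable [Finite F] [Finite V] {p : ℕ} [hp : Fact p.Prime]

/-- an element of order `p` without fixed vectors -/
theorem dvd_finrank {a : V ≃ₗ[F] V} (hap : a ^ p = 1) {W : Submodule F V} (hW : ∀ w ∈ W, a w ∈ W)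
    (hfix : ∀ w ∈ W, a w = w → w = 0) : orderOf (Nat.card F : ZMod p) ∣ finrank F W := by
  have hfinE : Finite (V ≃ₗ[F] V) := Finite.of_injective (fun g : V ≃ₗ[F] V => (g : V → V)) DFunLike.coe_injective
  have hWz : ∀ g ∈ Subgroup.zpowers a, ∀ w ∈ W, g w ∈ W := by
    intro g hg w hw
    obtain ⟨k, rfl⟩ := (mem_powers_iff_mem_zpowers (x := a)).2 hg
    have h1 : ∀ k : ℕ, (a ^ k) w ∈ W := by
      intro k
      induction k with
      | zero => exact hw
      | succ k ih =>
        rw [pow_succ']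
        exact hW _ ih
    exact h1 k
  have hP : IsPGroup p (Subgroup.zpowers a) := by
    intro g
    obtain ⟨g, hg⟩ := g
    obtain ⟨k, rfl⟩ := Subgroup.mem_zpowers_iff.1 hg
    refine ⟨1, Subtype.ext ?_⟩
    show (a ^ k) ^ (p ^ 1) = 1
    rw [pow_one, ← zpow_natCast, ← zpow_mul, mul_comm, zpow_mul, zpow_natCast, hap, one_zpow]
  let act : MulAction (Subgroup.zpowers a) W :=
    { smul := fun g w => ⟨(g : V ≃ₗ[F] V) w.1, hWz _ g.2 _ w.2⟩
      one_smul := fun w => rfl
      mul_smul := fun g h w => rfl }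
  have h1 : Nat.card (MulAction.fixedPoints (Subgroup.zpowers a) W) = 1 := by
    rw [Nat.card_eq_one_iff_unique]
    have key : ∀ w : W, w ∈ MulAction.fixedPoints (Subgroup.zpowers a) W → w = 0 := by
      intro w hw
      refine Subtype.ext (hfix w.1 w.2 ?_)
      exact congrArg Subtype.val (hw ⟨a, Subgroup.mem_zpowers a⟩)
    refine ⟨⟨fun u v => Subtype.ext ((key _ u.2).trans (key _ v.2).symm)⟩, ⟨0, fun g => Subtype.ext ?_⟩⟩
    show (g : V ≃ₗ[F] V) 0 = 0
    exact map_zero _
  have h2 := hP.card_modEq_card_fixedPoints W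
  rw [h1, ← ZMod.natCast_eq_natCast_iff, Module.natCard_eq_pow_finrank (K := F) (V := W)] at h2
  push_cast at h2
  exact orderOf_dvd_of_pow_eq_one h2

/-- **the dimension of a block** -/
theorem le_finrank (hp2 : p ≠ 2) (hpF : (p : F) ≠ 0) {B : V → V → F} {G : Subgroup (V ≃ₗ[F] V)}
    (h : SplF (RingHom.id F) B G) {E : ℕ}
    (hE : orderOf (Nat.card F : ZMod p) = E ∨ (Odd (orderOf (Nat.card F : ZMod p)) ∧ E = 2 * orderOf (Nat.card F : ZMod p)))
    {a : V ≃ₗ[F] V} (haG : a ∈ G) (hap : a ^ p = 1) {W : Submodule F V} (hW : ∀ w ∈ W, a w ∈ W)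
    (hfix : ∀ w ∈ W, a w = w → w = 0) (hnd : ND B W) (h0 : W ≠ ⊥) : E ≤ finrank F W := by
  have hfinE : Finite (V ≃ₗ[F] V) := Finite.of_injective (fun g : V ≃ₗ[F] V => (g : V → V)) DFunLike.coe_injective
  have h1 := dvd_finrank hap hW hfix
  have hpos : 0 < finrank F W := by
    rw [finrank_pos_iff]
    exact Submodule.nontrivial_iff_ne_bot.2 h0
  rcases hE with hE | ⟨ho, hE⟩
  · rw [hE] at h1
    exact Nat.le_of_dvd hpos h1
  obtain ⟨k, hk⟩ := h1
  set d := orderOf (Nat.card F : ZMod p) with hd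
  rcases Nat.lt_or_ge k 2 with hk2 | hk2
  swap
  · rw [hE, hk, mul_comm 2 d]
    exact Nat.mul_le_mul_left _ hk2
  exfalso
  have hk1 : k = 1 := by
    rcases Nat.eq_zero_or_pos k with rfl | h'
    · omega
    · omega
  rw [hk1, mul_one] at hk
  have hWz : Inv (Subgroup.zpowers a) W := by
    intro g hg w hw
    obtain ⟨k, rfl⟩ := (mem_powers_iff_mem_zpowers (x := a)).2 hg
    have h1 : ∀ k : ℕ, (a ^ k) w ∈ W := by
      intro k
      induction k with
      | zero => exact hw
      | succ k ih =>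
        rw [pow_succ']
        exact hW _ ih
    exact h1 k
  have hirr : Irr (Subgroup.zpowers a) W := by
    refine ⟨hWz, h0, fun X hX hXi => ?_⟩
    by_cases hX0 : X = ⊥
    · exact Or.inl hX0
    · right
      have h2 := dvd_finrank (p := p) hap (W := X) (fun w hw => hXi a (Subgroup.mem_zpowers a) w hw)
        (fun w hw => hfix w (hX hw))
      have h3 : 0 < finrank F X := by
        rw [finrank_pos_iff]
        exact Submodule.nontrivial_iff_ne_bot.2 hX0
      have h4 := Nat.le_of_dvd h3 h2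
      exact Submodule.eq_of_le_of_finrank_le hX (by rw [hk]; exact h4)
  have hP : IsPGroup p (Subgroup.zpowers a) := by
    intro g
    obtain ⟨g, hg⟩ := g
    obtain ⟨k, rfl⟩ := Subgroup.mem_zpowers_iff.1 hg
    refine ⟨1, Subtype.ext ?_⟩
    show (a ^ k) ^ (p ^ 1) = 1
    rw [pow_one, ← zpow_natCast, ← zpow_mul, mul_comm, zpow_mul, zpow_natCast, hap, one_zpow]
  obtain ⟨j, hj⟩ := H16.XZ.dvd_of_irr hpF h ((Subgroup.zpowers_le).2 haG) hP hirr hnd
    (fun u hu hu' => hfix u hu (mem_fix_zpowers.1 hu'))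
  rw [← ZMod.natCast_eq_zero_iff] at hj
  push_cast at hj
  have h5 : (Nat.card F : ZMod p) ^ j = -1 := eq_neg_of_add_eq_zero_left hj
  have h6 : ((Nat.card F : ZMod p) ^ d) = 1 := pow_orderOf_eq_one _
  have h7 : (-1 : ZMod p) ^ d = 1 := by
    rw [← h5, ← pow_mul, mul_comm, pow_mul, h6, one_pow]
  rw [ho.neg_one_pow] at h7
  have h8 : ((2 : ℕ) : ZMod p) = 0 := by
    push_cast
    linear_combination -h7
  rw [ZMod.natCast_eq_zero_iff] at h8
  exact hp2 ((Nat.prime_dvd_prime_iff_eq hp.out Nat.prime_two).1 h8)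

omit [Finite F] [Finite V] in
/-- two commuting elements of order `p` do not act freely -/
theorem free_false (hpF : (p : F) ≠ 0) {z x : V ≃ₗ[F] V} (hzx : z * x = x * z) (hz : z ^ p = 1) (hx : x ^ p = 1)
    {D : Submodule F V} (hzD : ∀ v ∈ D, z v ∈ D) (hxD : ∀ v ∈ D, x v ∈ D)
    (h1 : ∀ v ∈ D, z v = v → v = 0) (h2 : ∀ j < p, ∀ v ∈ D, (x * z ^ j) v = v → v = 0) {v : V} (hv : v ∈ D) : v = 0 := by
  have hp1 := hp.out.pos
  have hpow : ∀ (g : V ≃ₗ[F] V), (∀ w ∈ D, g w ∈ D) → ∀ (k : ℕ) (w : V), w ∈ D → (g ^ k) w ∈ D := by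
    intro g hg k
    induction k with
    | zero => intro w hw; exact hw
    | succ k ih =>
      intro w hw
      rw [pow_succ']
      exact hg _ (ih w hw)
  -- the sum over a group of order `p`
  have hsum : ∀ g : V ≃ₗ[F] V, g ^ p = 1 → ∀ w : V, g (∑ i ∈ Finset.range p, (g ^ i) w) = ∑ i ∈ Finset.range p, (g ^ i) w := by
    intro g hg w
    rw [map_sum]
    have h3 : ∀ i, g ((g ^ i) w) = (g ^ (i + 1)) w := fun i => by rw [pow_succ']; rfl
    simp only [h3]
    have h4 := Finset.sum_range_succ' (fun i => (g ^ i) w) p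
    rw [Finset.sum_range_succ, hg, pow_zero] at h4
    exact (add_right_cancel h4).symm
  have hmemS : ∀ g : V ≃ₗ[F] V, (∀ w ∈ D, g w ∈ D) → ∀ w ∈ D, (∑ i ∈ Finset.range p, (g ^ i) w) ∈ D :=
    fun g hg w hw => Submodule.sum_mem _ fun i _ => hpow g hg i w hw
  -- `z ^ i`
  have hzi : ∀ i, 0 < i → i < p → ∑ j ∈ Finset.range p, ((z ^ i) ^ j) v = 0 := by
    intro i hi0 hip
    have h3 : (z ^ i) ^ p = 1 := by rw [← pow_mul, mul_comm, pow_mul, hz, one_pow]
    have h4 := hsum (z ^ i) h3 v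
    set s := ∑ j ∈ Finset.range p, ((z ^ i) ^ j) v with hs
    have hsD : s ∈ D := hmemS (z ^ i) (hpow z hzD i) v hv
    -- `z` is a power of `z ^ i`
    obtain ⟨k, hk⟩ : ∃ k, (z ^ i) ^ k = z := by
      have hcop : Nat.Coprime i p := (Nat.coprime_comm.1 ((Nat.Prime.coprime_iff_not_dvd hp.out).2
        (Nat.not_dvd_of_pos_of_lt hi0 hip)))
      have hzord : orderOf z ∣ p := orderOf_dvd_of_pow_eq_one hz
      have h5 : Nat.Coprime (orderOf z) i := (Nat.Coprime.coprime_dvd_left hzord hcop.symm)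
      obtain ⟨k, hk⟩ := exists_pow_eq_self_of_coprime h5.symm
      exact ⟨k, hk⟩
    have h5 : z s = s := by
      rw [← hk]
      have h6 : ∀ k : ℕ, ((z ^ i) ^ k) s = s := by
        intro k
        induction k with
        | zero => rfl
        | succ k ih =>
          rw [pow_succ']
          show (z ^ i) (((z ^ i) ^ k) s) = s
          rw [ih]
          exact h4
      exact h6 k
    exact h1 s hsD h5
  have hxz : ∀ j < p, ∑ i ∈ Finset.range p, ((x * z ^ j) ^ i) v = 0 := by
    intro j hj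
    have hD : ∀ w ∈ D, (x * z ^ j) w ∈ D := fun w hw => hxD _ (hpow z hzD j w hw)
    have hc : Commute x (z ^ j) := (show Commute x z from hzx.symm).pow_right j
    have h3 : (x * z ^ j) ^ p = 1 := by
      rw [hc.mul_pow, hx, ← pow_mul, mul_comm, pow_mul, hz, one_pow, one_mul]
    exact h2 j hj _ (hmemS _ hD v hv) (hsum _ h3 v)
  have h3 : ∑ j ∈ Finset.range p, ∑ i ∈ Finset.range p, ((x * z ^ j) ^ i) v = 0 :=
    Finset.sum_eq_zero fun j hj => hxz j (Finset.mem_range.1 hj)
  rw [Finset.sum_comm] at h3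
  have h4 : ∀ i ∈ Finset.range p, i ≠ 0 → ∑ j ∈ Finset.range p, ((x * z ^ j) ^ i) v = 0 := by
    intro i hi hi0
    have h5 : ∀ j, ((x * z ^ j) ^ i) v = (x ^ i) (((z ^ i) ^ j) v) := by
      intro j
      have hc : Commute x (z ^ j) := (show Commute x z from hzx.symm).pow_right j
      rw [hc.mul_pow, ← pow_mul, ← pow_mul, mul_comm j i]
      rfl
    simp only [h5]
    rw [← map_sum, hzi i (Nat.pos_of_ne_zero hi0) (Finset.mem_range.1 hi), map_zero]
  rw [Finset.sum_eq_single_of_mem 0 (Finset.mem_range.2 hp1) h4] at h3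
  simp only [pow_zero, Finset.sum_const, Finset.card_range] at h3
  have h5 : (p : F) • v = 0 := by
    rw [Nat.cast_smul_eq_nsmul]
    exact h3
  exact (smul_eq_zero.1 h5).resolve_left hpF

/-- a noncyclic `p`-group contains an elementary abelian group of order `p ^ 2` -/
theorem exists_pair {T : Type*} [Group T] [Finite T] (hT : IsPGroup p T) (hp2 : p ≠ 2) (hnc : ¬ IsCyclic T) :
    ∃ z x : T, z ^ p = 1 ∧ x ^ p = 1 ∧ z ≠ 1 ∧ z * x = x * z ∧ x ∉ Subgroup.zpowers z := by
  have hnt : Nontrivial T := by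
    by_contra h
    rw [not_nontrivial_iff_subsingleton] at h
    exact hnc inferInstance
  have hc := hT.center_nontrivial
  have hpc : p ∣ Nat.card (Subgroup.center T) := by
    obtain ⟨k, hk⟩ := (IsPGroup.iff_card (p := p)).1 (hT.to_subgroup (Subgroup.center T))
    rcases Nat.eq_zero_or_pos k with rfl | h'
    · rw [pow_zero] at hk
      exact absurd hk (Finite.one_lt_card (α := Subgroup.center T)).ne'
    · rw [hk]
      exact dvd_pow_self p h'.ne'
  obtain ⟨⟨z, hzc⟩, hzo⟩ := exists_prime_orderOf_dvd_card' p hpc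
  have hzo' : orderOf z = p := by
    rw [← hzo]
    exact (Subgroup.orderOf_mk z hzc).symm
  have hz : z ^ p = 1 := by rw [← hzo', pow_orderOf_eq_one]
  have hz1 : z ≠ 1 := by
    rintro rfl
    rw [orderOf_one] at hzo'
    exact hp.out.one_lt.ne hzo'
  by_contra hcon
  push Not at hcon
  have hall : ∀ x : T, x ^ p = 1 → x ∈ Subgroup.zpowers z := fun x hx =>
    hcon z x hz hx hz1 ((Subgroup.mem_center_iff.1 hzc x).symm)
  apply hnc
  refine Cfsg.Agent.Solvable.UniqueOrderP.isCyclic_of_uniqueP hp2 hT ?_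
  intro x y hx1 hx hy
  -- `zpowers x = zpowers z`
  have h1 : Subgroup.zpowers x ≤ Subgroup.zpowers z := (Subgroup.zpowers_le).2 (hall x hx)
  have h2 : Nat.card (Subgroup.zpowers z) ≤ Nat.card (Subgroup.zpowers x) := by
    rw [Nat.card_zpowers, Nat.card_zpowers, hzo', orderOf_eq_prime hx hx1]
  rw [Subgroup.eq_of_le_of_card_ge h1 h2]
  exact hall y hy

/-- **Two blocks.** -/
theorem two_blocks (hp2 : p ≠ 2) (hpF : (p : F) ≠ 0) {B : V → V → F} {G : Subgroup (V ≃ₗ[F] V)}
    (h : SplF (RingHom.id F) B G) {E : ℕ}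
    (hE : orderOf (Nat.card F : ZMod p) = E ∨ (Odd (orderOf (Nat.card F : ZMod p)) ∧ E = 2 * orderOf (Nat.card F : ZMod p)))
    {T : Subgroup (V ≃ₗ[F] V)} (hTG : T ≤ G) (hT : IsPGroup p T) (hnc : ¬ IsCyclic T) :
    finrank F (fixP T) + 2 * E ≤ finrank F V := by
  have hfinE : Finite (V ≃ₗ[F] V) := Finite.of_injective (fun g : V ≃ₗ[F] V => (g : V → V)) DFunLike.coe_injective
  have hfd : FiniteDimensional F V := inferInstance
  obtain ⟨⟨z, hzT⟩, ⟨x, hxT⟩, hz, hx, hz1, hzx, hxz⟩ := exists_pair hT hp2 hnc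
  replace hz : z ^ p = 1 := congrArg Subtype.val hz
  replace hx : x ^ p = 1 := congrArg Subtype.val hx
  replace hz1 : z ≠ 1 := fun e => hz1 (Subtype.ext e)
  replace hzx : z * x = x * z := congrArg Subtype.val hzx
  replace hxz : ∀ j : ℕ, x ≠ z ^ j := by
    intro j e
    apply hxz
    exact Subgroup.mem_zpowers_iff.2 ⟨j, Subtype.ext (by rw [zpow_natCast]; exact e.symm)⟩
  set A : Subgroup (V ≃ₗ[F] V) := Subgroup.closure {z, x} with hA
  have hAT : A ≤ T := by
    rw [hA, Subgroup.closure_le]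
    rintro g (rfl | rfl)
    · exact hzT
    · exact hxT
  have hAp : IsPGroup p A := hT.to_le hAT
  have hmem : ∀ v, v ∈ fixP A ↔ z v = v ∧ x v = v := by
    intro v
    rw [mem_fixP]
    constructor
    · intro h1
      exact ⟨h1 z (Subgroup.subset_closure (by simp)), h1 x (Subgroup.subset_closure (by simp))⟩
    · rintro ⟨h1, h2⟩ g hg
      have h3 : A ≤ MulAction.stabilizer (V ≃ₗ[F] V) v := by
        rw [hA, Subgroup.closure_le]
        rintro g (rfl | rfl)
        · exact h1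
        · exact h2
      exact h3 hg
  have hAnd : ND B (fixP A) := nd_fix hpF h (hAT.trans hTG) hAp
  -- the pair
  obtain ⟨a, b, haT, hbT, hap, hbp, hab, ha1, hfx, v₀, hv₀, hv₀'⟩ : ∃ a b : V ≃ₗ[F] V, a ∈ T ∧ b ∈ T ∧ a ^ p = 1 ∧ b ^ p = 1 ∧
      a * b = b * a ∧ a ≠ 1 ∧ (∀ v, (a v = v ∧ b v = v) ↔ v ∈ fixP A) ∧ ∃ v, a v = v ∧ v ∉ fixP A := by
    by_contra hcon
    push Not at hcon
    have h1 : ∀ v, z v = v → v ∈ fixP A := hcon z x hzT hxT hz hx hzx hz1 (fun v => (hmem v).symm)
    have h2 : ∀ (j : ℕ) v, (x * z ^ j) v = v → v ∈ fixP A := by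
      intro j
      have hc : Commute x (z ^ j) := (show Commute x z from hzx.symm).pow_right j
      refine hcon (x * z ^ j) z (T.mul_mem hxT (T.pow_mem hzT j)) hzT ?_ hz ?_ ?_ ?_
      · rw [hc.mul_pow, hx, ← pow_mul, mul_comm, pow_mul, hz, one_pow, one_mul]
      · rw [← mul_assoc, hzx, mul_assoc, mul_assoc, ← pow_succ, ← pow_succ']
      · intro e
        -- `x = z ^ (-j)`
        have h3 : x = (z ^ j)⁻¹ := eq_inv_of_mul_eq_one_left e
        have h4 : (z ^ j)⁻¹ = z ^ (j * (p - 1)) := by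
          rw [inv_eq_iff_mul_eq_one, ← pow_add]
          have h5 : j + j * (p - 1) = p * j := by
            obtain ⟨k, hk⟩ : ∃ k, p = k + 1 := ⟨p - 1, by have := hp.out.pos; omega⟩
            rw [hk, Nat.add_sub_cancel]
            ring
          rw [h5, pow_mul, hz, one_pow]
        exact hxz _ (h3.trans h4)
      · intro v
        rw [hmem]
        constructor
        · rintro ⟨h3, h4⟩
          refine ⟨h4, ?_⟩
          have h5 : (z ^ j) v = v := by
            have h6 : z ∈ MulAction.stabilizer (V ≃ₗ[F] V) v := h4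
            exact pow_mem h6 j
          have h6 : x ((z ^ j) v) = v := h3
          rwa [h5] at h6
        · rintro ⟨h4, h3⟩
          refine ⟨?_, h4⟩
          have h5 : (z ^ j) v = v := by
            have h6 : z ∈ MulAction.stabilizer (V ≃ₗ[F] V) v := h4
            exact pow_mem h6 j
          show x ((z ^ j) v) = v
          rw [h5, h3]
    -- everything is fixed
    have hD : h.perp (fixP A) = ⊥ := by
      rw [eq_bot_iff]
      intro v hv
      have hinv := h.inv_perp (hAT.trans hTG) (inv_fixP A)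
      have key : ∀ w ∈ h.perp (fixP A), w ∈ fixP A → w = 0 := by
        intro w hw hw'
        have h3 := (h.isCompl_perp hAnd).inf_eq_bot
        have h4 : w ∈ fixP A ⊓ h.perp (fixP A) := ⟨hw', hw⟩
        rw [h3] at h4
        exact h4
      exact free_false hpF hzx hz hx (fun v hv => hinv z (Subgroup.subset_closure (by simp)) v hv)
        (fun v hv => hinv x (Subgroup.subset_closure (by simp)) v hv) (fun v hv hv' => key v hv (h1 v hv'))
        (fun j _ v hv hv' => key v hv (h2 j v hv')) hv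
    have htop := (h.isCompl_perp hAnd).sup_eq_top
    rw [hD, sup_bot_eq] at htop
    apply hz1
    apply LinearEquiv.ext
    intro v
    have h3 : v ∈ fixP A := by rw [htop]; trivial
    exact ((hmem v).1 h3).1
  -- the decomposition
  have haP : IsPGroup p (Subgroup.zpowers a) := hT.to_le ((Subgroup.zpowers_le).2 haT)
  have haG : Subgroup.zpowers a ≤ G := (Subgroup.zpowers_le).2 (hTG haT)
  have hUnd : ND B (fixP (Subgroup.zpowers a)) := nd_fix hpF h haG haP
  have hAU : fixP A ≤ fixP (Subgroup.zpowers a) := fun v hv => mem_fix_zpowers.2 ((hfx v).2 hv).1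
  set U := fixP (Subgroup.zpowers a) with hU
  set D₂ := U ⊓ h.perp (fixP A) with hD₂
  have hsup : fixP A ⊔ D₂ = U := by
    apply le_antisymm
    · exact sup_le hAU inf_le_left
    · intro v hv
      have h1 : v ∈ fixP A ⊔ h.perp (fixP A) := by rw [(h.isCompl_perp hAnd).sup_eq_top]; trivial
      obtain ⟨w, hw, y, hy, rfl⟩ := Submodule.mem_sup.1 h1
      refine Submodule.add_mem_sup hw ⟨?_, hy⟩
      have h2 := U.sub_mem hv (hAU hw)
      rwa [add_sub_cancel_left] at h2
  have hinf : fixP A ⊓ D₂ = ⊥ := by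
    rw [eq_bot_iff]
    rintro v ⟨hv, hv'⟩
    have h3 := (h.isCompl_perp hAnd).inf_eq_bot
    have h4 : v ∈ fixP A ⊓ h.perp (fixP A) := ⟨hv, hv'.2⟩
    rw [h3] at h4
    exact h4
  have hD₂nd : ND B D₂ := by
    intro v hv hv'
    refine hUnd v hv.1 fun u hu => ?_
    have h1 : u ∈ fixP A ⊔ D₂ := by rw [hsup]; exact hu
    obtain ⟨w, hw, y, hy, rfl⟩ := Submodule.mem_sup.1 h1
    rw [h.add_right, hv.2 w hw, hv' y hy, add_zero]
  have hD₂0 : D₂ ≠ ⊥ := by
    intro e
    rw [e, sup_bot_eq] at hsup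
    apply hv₀'
    rw [hsup]
    exact mem_fix_zpowers.2 hv₀
  have hbT' : Subgroup.zpowers b ≤ G := (Subgroup.zpowers_le).2 (hTG hbT)
  have hD₂b : ∀ w ∈ D₂, b w ∈ D₂ := by
    intro w hw
    refine ⟨mem_fix_zpowers.2 ?_, ?_⟩
    · have h1 : a w = w := mem_fix_zpowers.1 hw.1
      show (a * b) w = b w
      rw [hab]
      show b (a w) = b w
      rw [h1]
    · have hinvb : Inv (Subgroup.zpowers b) (fixP A) := by
        intro g hg v hv
        have h2 : b v = v := ((hfx v).2 hv).2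
        have h3 : v ∈ fixP (Subgroup.zpowers b) := mem_fix_zpowers.2 h2
        rw [h3 g hg]
        exact hv
      exact h.inv_perp hbT' hinvb b (Subgroup.mem_zpowers b) w hw.2
  have hD₂f : ∀ w ∈ D₂, b w = w → w = 0 := by
    intro w hw hbw
    have h1 : a w = w := mem_fix_zpowers.1 hw.1
    have h2 : w ∈ fixP A ⊓ D₂ := ⟨(hfx w).1 ⟨h1, hbw⟩, hw⟩
    rw [hinf] at h2
    exact h2
  have h2 := le_finrank hp2 hpF h hE (hTG hbT) hbp hD₂b hD₂f hD₂nd hD₂0
  -- the complement of `U`
  have hPU := h.isCompl_perp hUnd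
  have h1 : E ≤ finrank F (h.perp U) := by
    refine le_finrank hp2 hpF h hE (hTG haT) hap (fun w hw => ?_) (fun w hw haw => ?_) (h.nd_perp hUnd) ?_
    · exact h.inv_perp haG (inv_fixP _) a (Subgroup.mem_zpowers a) w hw
    · have h3 : w ∈ U ⊓ h.perp U := ⟨mem_fix_zpowers.2 haw, hw⟩
      rw [hPU.inf_eq_bot] at h3
      exact h3
    · intro e
      have htop := hPU.sup_eq_top
      rw [e, sup_bot_eq] at htop
      apply ha1
      apply LinearEquiv.ext
      intro v
      have h3 : v ∈ U := by rw [htop]; trivial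
      exact mem_fix_zpowers.1 h3
  have h3 := Submodule.finrank_add_eq_of_isCompl hPU
  have h4 := Submodule.finrank_sup_add_finrank_inf_eq (fixP A) D₂
  rw [hsup, hinf, finrank_bot, add_zero] at h4
  have h5 : finrank F (fixP T) ≤ finrank F (fixP A) := by
    refine Submodule.finrank_mono fun v hv => ?_
    rw [mem_fixP] at hv ⊢
    exact fun g hg => hv g (hAT hg)
  omega

end dim

end Cfsg.Agent.H914.XR.TwoB
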